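import Groth.Agent.EtCoh.K611.Top

/-!
# Toric chart rings of level `n` and the Cartier operator on two-forms

`WB p n k W`: base ring `W`, flat over `ℤ/p^n`, with residue field `k`.
`Tor p n A`: a frame `x₀, x₁` of `A`, a lift `φ` of Frobenius with `φ xᵢ = xᵢ^p` such that the monomials
`x₀^i x₁^j` (`i, j < p`) form a basis of `A` over `φ`, and `A` is flat over `ℤ/p^n`.
`Tor.S`: the operator on two-forms sending `φ(a) x₀^i x₁^j dx₀ dx₁` to `a dx₀ dx₁` if `i = j = p - 1`, else to `0`.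
-/

set_option autoImplicit false

universe u

open KaehlerDifferential K611.Gam K611.Gam2 K611.Frame K611.Top

noncomputable section

namespace K56.T4

/-- `W` is flat over `ℤ/p^n`, `W / p = k`, with a Frobenius lift. -/
structure WB (p n : ℕ) (k W : Type u) [Field k] [CommRing W] where
  /-- reduction -/
  π : W →+* k
  surj : Function.Surjective π
  ker : RingHom.ker π = Ideal.span {(p : W)}
  pn : (p : W) ^ n = 0
  flat : ∀ i ≤ n, ∀ a : W, (p : W) ^ i * a = 0 → ∃ b, a = (p : W) ^ (n - i) * b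
  /-- the lift of Frobenius -/
  σ : W →+* W
  hσ : ∀ w, ∃ v, σ w = w ^ p + (p : W) * v
  om : Subsingleton Ω[W⁄ℤ]

/-- Toric chart ring of level `n`. -/
structure Tor (p n : ℕ) (A : Type u) [CommRing A] where
  /-- the coordinates -/
  fr : Fr A (Fin 2)
  /-- the lift of Frobenius -/
  φ : A →+* A
  pn : (p : A) ^ n = 0
  φx : ∀ i, φ (fr.x i) = fr.x i ^ p
  hφ : ∀ a, ∃ b, φ a = a ^ p + (p : A) * b
  bas : Function.Bijective (fun f : Fin p × Fin p → A =>
    ∑ e, φ (f e) * (fr.x 0 ^ (e.1 : ℕ) * fr.x 1 ^ (e.2 : ℕ)))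
  flat : ∀ i ≤ n, ∀ a : A, (p : A) ^ i * a = 0 → ∃ b, a = (p : A) ^ (n - i) * b

namespace Tor

variable {p n : ℕ} {A : Type u} [CommRing A] (T : Tor p n A)

/-- The monomials. -/
def mon (e : Fin p × Fin p) : A := T.fr.x 0 ^ (e.1 : ℕ) * T.fr.x 1 ^ (e.2 : ℕ)

/-- The expansion in monomials. -/
def expn : (Fin p × Fin p → A) →+ A where
  toFun f := ∑ e, T.φ (f e) * (T.fr.x 0 ^ (e.1 : ℕ) * T.fr.x 1 ^ (e.2 : ℕ))
  map_zero' := by simp
  map_add' f g := by simp [add_mul, Finset.sum_add_distrib]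

/-- The coordinates. -/
def coord : A ≃+ (Fin p × Fin p → A) := (AddEquiv.ofBijective T.expn T.bas).symm

theorem coord_spec (a : A) : ∑ e, T.φ (T.coord a e) * T.mon e = a :=
  (AddEquiv.ofBijective T.expn T.bas).apply_symm_apply a

theorem coord_unique (f : Fin p × Fin p → A) {a : A} (h : ∑ e, T.φ (f e) * T.mon e = a) : T.coord a = f := by
  rw [← h]
  exact (AddEquiv.ofBijective T.expn T.bas).symm_apply_apply f

theorem coord_phi_mul (a b : A) (e : Fin p × Fin p) : T.coord (T.φ a * b) e = a * T.coord b e := by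
  have : T.coord (T.φ a * b) = fun e => a * T.coord b e := by
    apply T.coord_unique
    simp only [map_mul, mul_assoc]
    rw [← Finset.mul_sum, T.coord_spec]
  rw [this]

theorem coord_mon (e e' : Fin p × Fin p) : T.coord (T.mon e) e' = if e' = e then 1 else 0 := by
  have : T.coord (T.mon e) = fun e' => if e' = e then 1 else 0 := by
    apply T.coord_unique
    simp
  rw [this]

variable [hp : Fact p.Prime]

/-- The top exponent. -/
def top (p : ℕ) [hp : Fact p.Prime] : Fin p × Fin p :=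
  (⟨p - 1, Nat.sub_lt hp.out.pos one_pos⟩, ⟨p - 1, Nat.sub_lt hp.out.pos one_pos⟩)

/-- The top coordinate. -/
def tc (a : A) : A := T.coord a (top p)

theorem tc_add (a b : A) : T.tc (a + b) = T.tc a + T.tc b := by
  unfold tc
  rw [map_add]
  rfl

theorem tc_zero : T.tc 0 = 0 := by
  unfold tc
  rw [map_zero]
  rfl

/-- The top coordinate as an additive map. -/
def tcH : A →+ A where
  toFun := T.tc
  map_zero' := T.tc_zero
  map_add' := T.tc_add

theorem tc_sum {ι : Type*} (s : Finset ι) (f : ι → A) : T.tc (∑ i ∈ s, f i) = ∑ i ∈ s, T.tc (f i) :=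
  map_sum T.tcH f s

theorem tc_sub (a b : A) : T.tc (a - b) = T.tc a - T.tc b := map_sub T.tcH a b

theorem tc_phi_mul (a b : A) : T.tc (T.φ a * b) = a * T.tc b := T.coord_phi_mul a b _

theorem tc_mon {i j : ℕ} (hi : i < p) (hj : j < p) :
    T.tc (T.fr.x 0 ^ i * T.fr.x 1 ^ j) = if i = p - 1 ∧ j = p - 1 then 1 else 0 := by
  have h := T.coord_mon (⟨i, hi⟩, ⟨j, hj⟩) (top p)
  have e : ((top p = ((⟨i, hi⟩, ⟨j, hj⟩) : Fin p × Fin p)) ↔ (i = p - 1 ∧ j = p - 1)) := by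
    unfold top
    rw [Prod.mk.injEq, Fin.mk.injEq, Fin.mk.injEq]
    constructor
    · rintro ⟨h1, h2⟩
      exact ⟨h1.symm, h2.symm⟩
    · rintro ⟨h1, h2⟩
      exact ⟨h1.symm, h2.symm⟩
  simp only [e] at h
  exact h

theorem tc_phi_mon (a : A) {i j : ℕ} (hi : i < p) (hj : j < p) :
    T.tc (T.φ a * (T.fr.x 0 ^ i * T.fr.x 1 ^ j)) = if i = p - 1 ∧ j = p - 1 then a else 0 := by
  rw [tc_phi_mul, tc_mon T hi hj]
  split_ifs
  · rw [mul_one]
  · rw [mul_zero]

omit hp in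
/-- Additive maps agreeing on `φ(a) x₀^i x₁^j` are equal. -/
theorem hom_ext {G : Type*} [AddCommGroup G] {f g : A →+ G} (h : ∀ (a : A) (i j : ℕ), i < p → j < p →
    f (T.φ a * (T.fr.x 0 ^ i * T.fr.x 1 ^ j)) = g (T.φ a * (T.fr.x 0 ^ i * T.fr.x 1 ^ j))) : f = g := by
  ext a
  rw [← T.coord_spec a, map_sum, map_sum]
  exact Finset.sum_congr rfl fun e _ => h _ _ _ e.1.2 e.2.2

omit hp in
/-- Induction on elements. -/
theorem elem_induction {P : A → Prop} (h0 : P 0) (hadd : ∀ a b, P a → P b → P (a + b))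
    (h : ∀ (a : A) (i j : ℕ), i < p → j < p → P (T.φ a * (T.fr.x 0 ^ i * T.fr.x 1 ^ j))) (a : A) : P a := by
  rw [← T.coord_spec a]
  exact Finset.sum_induction _ P hadd h0 fun e _ => h _ _ _ e.1.2 e.2.2

/-- The Cartier operator on two-forms. -/
def S : Om2 A →+ Om2 A where
  toFun ω := T.tc (det T.fr ω) • vol T.fr
  map_zero' := by rw [map_zero, tc_zero, zero_smul]
  map_add' ω ω' := by rw [map_add, tc_add, add_smul]

theorem S_apply (ω : Om2 A) : T.S ω = T.tc (det T.fr ω) • vol T.fr := rfl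

theorem S_smul_vol (a : A) : T.S (a • vol T.fr) = T.tc a • vol T.fr := by
  rw [S_apply, map_smul, det_vol, smul_eq_mul, mul_one]

theorem S_smul (a : A) (ω : Om2 A) : T.S (T.φ a • ω) = a • T.S ω := by
  rw [S_apply, S_apply, map_smul, smul_eq_mul, tc_phi_mul, mul_smul]

theorem S_mono (i j : ℕ) (hi : i < p) (hj : j < p) : T.S ((T.fr.x 0 ^ i * T.fr.x 1 ^ j) • vol T.fr) =
    if i = p - 1 ∧ j = p - 1 then vol T.fr else 0 := by
  rw [S_smul_vol, tc_mon T hi hj]
  split_ifs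
  · rw [one_smul]
  · rw [zero_smul]

omit hp in
/-- Two-forms are multiples of the volume form. -/
theorem exists_smul_vol (ω : Om2 A) : ∃ a : A, ω = a • vol T.fr := ⟨_, eq_det T.fr ω⟩

omit hp in
theorem smul_vol_inj {a b : A} (h : a • vol T.fr = b • vol T.fr) : a = b := by
  have := congrArg (det T.fr) h
  rwa [map_smul, map_smul, det_vol, smul_eq_mul, smul_eq_mul, mul_one, mul_one] at this

/-! ### Derivatives -/

omit hp in
theorem par_phi (i : Fin 2) (a : A) : T.fr.par i (T.φ a) =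
    (p : A) * (T.φ (T.fr.par i a) * T.fr.x i ^ (p - 1)) := by
  have h1 : D ℤ A (T.φ a) = omap T.φ (D ℤ A a) := (omap_D T.φ a).symm
  have h2 := T.fr.D_eq_sum a
  rw [Fr.par_apply, h1, h2, map_sum]
  simp only [omap_smul, omap_D, T.φx, Derivation.leibniz_pow]
  rw [map_sum, Finsupp.finsetSum_apply, Finset.sum_eq_single i]
  · simp only [map_smul, map_nsmul, Finsupp.smul_apply, smul_eq_mul]
    rw [← T.fr.hb, T.fr.b.repr_self, Finsupp.single_eq_same, mul_one, nsmul_eq_mul]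
    ring
  · intro j _ hj
    simp only [map_smul, map_nsmul, Finsupp.smul_apply, smul_eq_mul]
    rw [← T.fr.hb, T.fr.b.repr_self, Finsupp.single_eq_of_ne (Ne.symm hj)]
    simp
  · intro h
    exact absurd (Finset.mem_univ i) h

/-- The coordinate of exponent `(0, p - 1)`. -/
def c0 (a : A) : A := T.coord a (⟨0, hp.out.pos⟩, ⟨p - 1, Nat.sub_lt hp.out.pos one_pos⟩)

/-- The coordinate of exponent `(p - 1, 0)`. -/
def c1 (a : A) : A := T.coord a (⟨p - 1, Nat.sub_lt hp.out.pos one_pos⟩, ⟨0, hp.out.pos⟩)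

theorem c0_phi_mon (a : A) {i j : ℕ} (hi : i < p) (hj : j < p) :
    T.c0 (T.φ a * (T.fr.x 0 ^ i * T.fr.x 1 ^ j)) = if i = 0 ∧ j = p - 1 then a else 0 := by
  unfold c0
  rw [coord_phi_mul]
  have h := T.coord_mon (⟨i, hi⟩, ⟨j, hj⟩) (⟨0, hp.out.pos⟩, ⟨p - 1, Nat.sub_lt hp.out.pos one_pos⟩)
  have e : (((⟨0, hp.out.pos⟩, ⟨p - 1, Nat.sub_lt hp.out.pos one_pos⟩) : Fin p × Fin p) = (⟨i, hi⟩, ⟨j, hj⟩)) ↔
      (i = 0 ∧ j = p - 1) := by
    rw [Prod.mk.injEq, Fin.mk.injEq, Fin.mk.injEq]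
    exact ⟨fun h => ⟨h.1.symm, h.2.symm⟩, fun h => ⟨h.1.symm, h.2.symm⟩⟩
  simp only [e] at h
  change T.coord (T.fr.x 0 ^ i * T.fr.x 1 ^ j) _ = _ at h
  rw [h]
  split_ifs
  · rw [mul_one]
  · rw [mul_zero]

theorem c1_phi_mon (a : A) {i j : ℕ} (hi : i < p) (hj : j < p) :
    T.c1 (T.φ a * (T.fr.x 0 ^ i * T.fr.x 1 ^ j)) = if i = p - 1 ∧ j = 0 then a else 0 := by
  unfold c1
  rw [coord_phi_mul]
  have h := T.coord_mon (⟨i, hi⟩, ⟨j, hj⟩) (⟨p - 1, Nat.sub_lt hp.out.pos one_pos⟩, ⟨0, hp.out.pos⟩)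
  have e : (((⟨p - 1, Nat.sub_lt hp.out.pos one_pos⟩, ⟨0, hp.out.pos⟩) : Fin p × Fin p) = (⟨i, hi⟩, ⟨j, hj⟩)) ↔
      (i = p - 1 ∧ j = 0) := by
    rw [Prod.mk.injEq, Fin.mk.injEq, Fin.mk.injEq]
    exact ⟨fun h => ⟨h.1.symm, h.2.symm⟩, fun h => ⟨h.1.symm, h.2.symm⟩⟩
  simp only [e] at h
  change T.coord (T.fr.x 0 ^ i * T.fr.x 1 ^ j) _ = _ at h
  rw [h]
  split_ifs
  · rw [mul_one]
  · rw [mul_zero]

theorem c0_add (a b : A) : T.c0 (a + b) = T.c0 a + T.c0 b := by
  unfold c0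
  rw [map_add]
  rfl

theorem c1_add (a b : A) : T.c1 (a + b) = T.c1 a + T.c1 b := by
  unfold c1
  rw [map_add]
  rfl

theorem c0_zero : T.c0 0 = 0 := by
  unfold c0
  rw [map_zero]
  rfl

theorem c1_zero : T.c1 0 = 0 := by
  unfold c1
  rw [map_zero]
  rfl

omit hp in
theorem par_pow_self (i : Fin 2) (m : ℕ) : T.fr.par i (T.fr.x i ^ m) = (m : A) * T.fr.x i ^ (m - 1) := by
  rw [Derivation.leibniz_pow, par_self, smul_eq_mul, mul_one, nsmul_eq_mul]

omit hp in
theorem par_pow_ne {i j : Fin 2} (h : i ≠ j) (m : ℕ) : T.fr.par i (T.fr.x j ^ m) = 0 := by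
  rw [Derivation.leibniz_pow, par_ne _ h, smul_zero, smul_zero]

theorem tc_par0 (a : A) : T.tc (T.fr.par 0 a) = (p : A) * T.fr.par 0 (T.c0 a) := by
  induction a using T.elem_induction with
  | h0 => rw [map_zero, tc_zero, c0_zero, map_zero, mul_zero]
  | hadd a b ha hb => rw [map_add, tc_add, ha, hb, c0_add, map_add, mul_add]
  | h a i j hi hj =>
    have e1 : T.fr.par 0 (T.φ a * (T.fr.x 0 ^ i * T.fr.x 1 ^ j)) =
        T.φ a * ((i : A) * (T.fr.x 0 ^ (i - 1) * T.fr.x 1 ^ j)) +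
          (p : A) * (T.φ (T.fr.par 0 a) * (T.fr.x 0 ^ (p - 1 + i) * T.fr.x 1 ^ j)) := by
      rw [Derivation.leibniz, Derivation.leibniz, par_phi, par_pow_self, par_pow_ne T (by decide)]
      simp only [smul_eq_mul]
      ring
    rw [e1, tc_add]
    have e2 : T.tc (T.φ a * ((i : A) * (T.fr.x 0 ^ (i - 1) * T.fr.x 1 ^ j))) = 0 := by
      have e3 : T.φ a * ((i : A) * (T.fr.x 0 ^ (i - 1) * T.fr.x 1 ^ j)) =
          T.φ (a * (i : A)) * (T.fr.x 0 ^ (i - 1) * T.fr.x 1 ^ j) := by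
        rw [map_mul, map_natCast]
        ring
      rw [e3, tc_phi_mon T _ (by omega) hj]
      rcases Nat.eq_zero_or_pos i with rfl | h1
      · split_ifs
        · rw [Nat.cast_zero, mul_zero]
        · rfl
      · rw [if_neg]
        rintro ⟨h2, -⟩
        omega
    rw [e2, zero_add]
    rw [c0_phi_mon T a hi hj]
    have e4 : (p : A) * (T.φ (T.fr.par 0 a) * (T.fr.x 0 ^ (p - 1 + i) * T.fr.x 1 ^ j)) =
        T.φ ((p : A) * T.fr.par 0 a) * (T.fr.x 0 ^ (p - 1 + i) * T.fr.x 1 ^ j) := by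
      rw [map_mul, map_natCast, mul_assoc]
    rw [e4]
    rcases Nat.eq_zero_or_pos i with rfl | h1
    · rw [add_zero, tc_phi_mon T _ (Nat.sub_lt hp.out.pos one_pos) hj]
      by_cases hj' : j = p - 1
      · rw [if_pos ⟨rfl, hj'⟩, if_pos ⟨rfl, hj'⟩]
      · rw [if_neg (fun h => hj' h.2), if_neg (fun h => hj' h.2), map_zero, mul_zero]
    · have e5 : T.fr.x 0 ^ (p - 1 + i) = T.φ (T.fr.x 0) * T.fr.x 0 ^ (i - 1) := by
        rw [T.φx, ← pow_add]
        congr 1
        omega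
      rw [e5, mul_assoc, ← mul_assoc, ← map_mul, tc_phi_mon T _ (by omega) hj, if_neg (by omega),
        if_neg (by omega), map_zero, mul_zero]

theorem tc_par1 (a : A) : T.tc (T.fr.par 1 a) = (p : A) * T.fr.par 1 (T.c1 a) := by
  induction a using T.elem_induction with
  | h0 => rw [map_zero, tc_zero, c1_zero, map_zero, mul_zero]
  | hadd a b ha hb => rw [map_add, tc_add, ha, hb, c1_add, map_add, mul_add]
  | h a i j hi hj =>
    have e1 : T.fr.par 1 (T.φ a * (T.fr.x 0 ^ i * T.fr.x 1 ^ j)) =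
        T.φ a * ((j : A) * (T.fr.x 0 ^ i * T.fr.x 1 ^ (j - 1))) +
          (p : A) * (T.φ (T.fr.par 1 a) * (T.fr.x 0 ^ i * T.fr.x 1 ^ (p - 1 + j))) := by
      rw [Derivation.leibniz, Derivation.leibniz, par_phi, par_pow_self, par_pow_ne T (by decide)]
      simp only [smul_eq_mul]
      ring
    rw [e1, tc_add]
    have e2 : T.tc (T.φ a * ((j : A) * (T.fr.x 0 ^ i * T.fr.x 1 ^ (j - 1)))) = 0 := by
      have e3 : T.φ a * ((j : A) * (T.fr.x 0 ^ i * T.fr.x 1 ^ (j - 1))) =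
          T.φ (a * (j : A)) * (T.fr.x 0 ^ i * T.fr.x 1 ^ (j - 1)) := by
        rw [map_mul, map_natCast]
        ring
      rw [e3, tc_phi_mon T _ hi (by omega)]
      rcases Nat.eq_zero_or_pos j with rfl | h1
      · split_ifs
        · rw [Nat.cast_zero, mul_zero]
        · rfl
      · rw [if_neg]
        rintro ⟨-, h2⟩
        omega
    rw [e2, zero_add]
    rw [c1_phi_mon T a hi hj]
    have e4 : (p : A) * (T.φ (T.fr.par 1 a) * (T.fr.x 0 ^ i * T.fr.x 1 ^ (p - 1 + j))) =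
        T.φ ((p : A) * T.fr.par 1 a) * (T.fr.x 0 ^ i * T.fr.x 1 ^ (p - 1 + j)) := by
      rw [map_mul, map_natCast, mul_assoc]
    rw [e4]
    rcases Nat.eq_zero_or_pos j with rfl | h1
    · rw [add_zero, tc_phi_mon T _ hi (Nat.sub_lt hp.out.pos one_pos)]
      by_cases hi' : i = p - 1
      · rw [if_pos ⟨hi', rfl⟩, if_pos ⟨hi', rfl⟩]
      · rw [if_neg (fun h => hi' h.1), if_neg (fun h => hi' h.1), map_zero, mul_zero]
    · have e5 : T.fr.x 0 ^ i * T.fr.x 1 ^ (p - 1 + j) =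
          T.φ (T.fr.x 1) * (T.fr.x 0 ^ i * T.fr.x 1 ^ (j - 1)) := by
        rw [T.φx, mul_left_comm, ← pow_add]
        congr 2
        omega
      rw [e5, ← mul_assoc, ← map_mul, tc_phi_mon T _ hi (by omega), if_neg (by omega),
        if_neg (by omega), map_zero, mul_zero]

/-- `S` maps exact forms to `p` times exact forms. -/
theorem S_d1 (η : Ω[A⁄ℤ]) : ∃ η' : Ω[A⁄ℤ], T.S (d1 η) = p • d1 η' := by
  refine ⟨T.c0 (T.fr.b.repr η 1) • D ℤ A (T.fr.x 1) + T.c1 (T.fr.b.repr η 0) • D ℤ A (T.fr.x 0), ?_⟩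
  rw [S_apply, det_d1, tc_sub, tc_par0, tc_par1, ← Nat.cast_smul_eq_nsmul A]
  conv_rhs => rw [eq_det T.fr (d1 _)]
  rw [← mul_smul, map_add, d1_smul_D, d1_smul_D, map_add, det_w, det_w, repr_x, repr_x, repr_x, repr_x,
    ← Fr.par_apply, ← Fr.par_apply, ← Fr.par_apply, ← Fr.par_apply]
  congr 1
  simp
  ring

/-- `S` is natural. -/
theorem tc_nat {A' : Type u} [CommRing A'] (T' : Tor p n A') (f : A →+* A') (hx : ∀ i, f (T.fr.x i) = T'.fr.x i)
    (hf : ∀ a, f (T.φ a) = T'.φ (f a)) (a : A) : T'.tc (f a) = f (T.tc a) := by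
  induction a using T.elem_induction with
  | h0 => rw [map_zero, tc_zero, tc_zero, map_zero]
  | hadd a b ha hb => rw [map_add, tc_add, ha, hb, tc_add, map_add]
  | h a i j hi hj =>
    rw [map_mul, map_mul, map_pow, map_pow, hx, hx, hf, tc_phi_mon _ _ hi hj, tc_phi_mon _ _ hi hj]
    split_ifs
    · rfl
    · rw [map_zero]

omit hp in
theorem omap2_vol {A' : Type u} [CommRing A'] (T' : Tor p n A') (f : A →+* A')
    (hx : ∀ i, f (T.fr.x i) = T'.fr.x i) : omap2 f (vol T.fr) = vol T'.fr := by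
  unfold vol
  rw [omap2_w, omap_D, omap_D, hx, hx]

theorem S_nat {A' : Type u} [CommRing A'] (T' : Tor p n A') (f : A →+* A') (hx : ∀ i, f (T.fr.x i) = T'.fr.x i)
    (hf : ∀ a, f (T.φ a) = T'.φ (f a)) (ω : Om2 A) : T'.S (omap2 f ω) = omap2 f (T.S ω) := by
  obtain ⟨a, rfl⟩ := T.exists_smul_vol ω
  rw [omap2_smul, omap2_vol T T' f hx, S_smul_vol, S_smul_vol, omap2_smul, omap2_vol T T' f hx,
    tc_nat T T' f hx hf]

/-! ### Independence of the chart -/

section change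

variable (T' : Tor p n A) (hφ : T.φ = T'.φ) (h1 : T.fr.x 0 * T'.fr.x 1 = 1)
  (h2 : T'.fr.x 0 = T'.fr.x 1 * T.fr.x 1)

include h1 h2

omit hp in
theorem vol_change : vol T'.fr = T'.fr.x 1 ^ 3 • vol T.fr := by
  have e1 : D ℤ A (T'.fr.x 1) = -(T'.fr.x 1 ^ 2 • D ℤ A (T.fr.x 0)) := by
    have := congrArg (D ℤ A) h1
    rw [Derivation.leibniz, Derivation.map_one_eq_zero] at this
    have h3 := congrArg (fun z => T'.fr.x 1 • z) this
    simp only [smul_add, smul_zero, ← mul_smul] at h3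
    have h1' : T'.fr.x 1 * T.fr.x 0 = 1 := by rw [mul_comm]; exact h1
    rw [h1', one_smul] at h3
    rw [eq_neg_iff_add_eq_zero, sq]
    exact h3
  have e2 : D ℤ A (T'.fr.x 0) = T'.fr.x 1 • D ℤ A (T.fr.x 1) - (T.fr.x 1 * T'.fr.x 1 ^ 2) • D ℤ A (T.fr.x 0) := by
    rw [h2, Derivation.leibniz, e1, smul_neg, ← mul_smul, sub_eq_add_neg]
  unfold vol
  rw [e1, e2, w_neg_right, w_sub_left, w_smul_left, w_smul_left, w_smul_right, w_smul_right, w_self,
    smul_zero, smul_zero, sub_zero, w_swap (D ℤ A (T.fr.x 0)), smul_neg, smul_neg, neg_neg, ← mul_smul]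
  congr 1
  ring

include hφ

theorem tc_change (g : A) : T.tc (g * T'.fr.x 1 ^ 3) = T'.tc g * T'.fr.x 1 ^ 3 := by
  induction g using T'.elem_induction with
  | h0 => rw [zero_mul, tc_zero, tc_zero, zero_mul]
  | hadd a b ha hb => rw [add_mul, tc_add, ha, hb, tc_add, add_mul]
  | h a i j hi hj =>
    have hp1 := hp.out.two_le
    set y' := T'.fr.x 1 with hy'
    set x := T.fr.x 0 with hx
    set y := T.fr.x 1 with hy
    -- `y'^m = φ(y'^q) x^r`
    obtain ⟨q, r, hr, hqr⟩ : ∃ q r : ℕ, r < p ∧ p * q = i + j + 3 + r := by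
      refine ⟨(i + j + 3 + (p - 1)) / p, p * ((i + j + 3 + (p - 1)) / p) - (i + j + 3), ?_, ?_⟩
      · have h3 := Nat.div_add_mod (i + j + 3 + (p - 1)) p
        have h4 := Nat.mod_lt (i + j + 3 + (p - 1)) hp.out.pos
        omega
      · have h3 := Nat.div_add_mod (i + j + 3 + (p - 1)) p
        have h4 := Nat.mod_lt (i + j + 3 + (p - 1)) hp.out.pos
        omega
    have hyx : ∀ m : ℕ, y' ^ m * x ^ m = 1 := fun m => by rw [← mul_pow, mul_comm y' x, h1, one_pow]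
    have e1 : y' ^ (i + j + 3) = T.φ (y' ^ q) * x ^ r := by
      have e0 : T.φ y' = y' ^ p := by rw [hφ]; exact T'.φx 1
      rw [map_pow, e0, ← pow_mul, hqr, pow_add y' (i + j + 3) r, mul_assoc, hyx, mul_one]
    have e2 : T'.φ a * (T'.fr.x 0 ^ i * y' ^ j) * y' ^ 3 = T.φ (a * y' ^ q) * (x ^ r * y ^ i) := by
      rw [h2, mul_pow, map_mul, ← hφ]
      have : T.φ a * (y' ^ i * y ^ i * y' ^ j) * y' ^ 3 = T.φ a * (y' ^ (i + j + 3) * y ^ i) := by ring
      rw [this, e1]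
      ring
    rw [e2, tc_phi_mon T _ hr hi, tc_phi_mon T' _ hi hj]
    by_cases hij : i = p - 1 ∧ j = p - 1
    · obtain ⟨rfl, rfl⟩ := hij
      have hr' : r = p - 1 ∧ q = 3 := by
        have hq : q = 3 := by
          have h3 : p * q = 2 * p + 1 + r := by omega
          have h4 : 2 < q := by
            by_contra h5
            have : p * q ≤ p * 2 := Nat.mul_le_mul_left p (by omega)
            omega
          have h5 : q < 4 := by
            by_contra h6
            have : p * 4 ≤ p * q := Nat.mul_le_mul_left p (by omega)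
            omega
          omega
        subst hq
        omega
      rw [if_pos ⟨hr'.1, rfl⟩, if_pos ⟨rfl, rfl⟩, hr'.2]
    · rw [if_neg hij, zero_mul, if_neg]
      rintro ⟨hr', hi'⟩
      apply hij
      refine ⟨hi', ?_⟩
      -- `p q = p - 1 + j + 3 + p - 1`, so `j + 1` is divisible by `p`
      have h3 : p ∣ j + 1 := by
        have h4 : p * q = 2 * p + (j + 1) := by omega
        have h5 : p ∣ 2 * p + (j + 1) := ⟨q, h4.symm⟩
        exact (Nat.dvd_add_right (Dvd.intro_left 2 rfl)).1 h5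
      have h4 := Nat.le_of_dvd (by omega) h3
      omega

/-- The operator `S` does not depend on the chart. -/
theorem S_eq : T.S = T'.S := by
  ext ω
  obtain ⟨g, rfl⟩ := T'.exists_smul_vol ω
  rw [S_smul_vol, vol_change T T' h1 h2, ← mul_smul, S_smul_vol, tc_change T T' hφ h1 h2, mul_smul]

end change

end Tor

end K56.T4
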