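import Groth.Agent.CalgB.EtaleNbhd
import Groth.Agent.EtCoh.K56.TorS
import Mathlib.FieldTheory.IsAlgClosed.AlgebraicClosure
import Mathlib.RingTheory.RingHom.Etale
import Mathlib.RingTheory.LocalRing.ResidueField.Ideal

/-!
# Étale-local solutions of `c z^p - z = e`
-/

set_option autoImplicit false

universe u

open Polynomial

noncomputable section

namespace K56.T4

/-- Étale-local solutions of `c z^p - z = e` if `p` is nilpotent. -/
theorem exists_sol {p : ℕ} [hp : Fact p.Prime] {A : Type u} [CommRing A] {n : ℕ} (hpn : (p : A) ^ n = 0) (c e : A)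
    (q : PrimeSpectrum A) : ∃ (C : Type u) (_ : CommRing C) (f : A →+* C), f.Etale ∧
      (∃ r : PrimeSpectrum C, PrimeSpectrum.comap f r = q) ∧ ∃ z : C, f c * z ^ p - z = f e := by
  obtain ⟨C, _, _, hC, x, hx, huniv⟩ := Groth.Agent.CalgB.EtaleNbhd.exists_etale_of_system
    (fun _ : Fin 1 => (MvPolynomial.C c * MvPolynomial.X 0 ^ p - MvPolynomial.X 0 - MvPolynomial.C e : MvPolynomial (Fin 1) A))
  let K : Type u := AlgebraicClosure q.asIdeal.ResidueField
  let g : A →+* K := (algebraMap q.asIdeal.ResidueField K).comp (algebraMap A q.asIdeal.ResidueField)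
  let : Algebra A K := g.toAlgebra
  have hpK : (p : K) = 0 := by
    have h1 := congrArg g hpn
    rw [map_pow, map_natCast, map_zero] at h1
    exact eq_zero_of_pow_eq_zero h1
  obtain ⟨y, hy⟩ : ∃ y : K, g c * y ^ p - y - g e = 0 := by
    let F : K[X] := Polynomial.C (g c) * X ^ p - X - Polynomial.C (g e)
    have hF : F.coeff 1 = -1 := by
      have hp1 : (1 : ℕ) ≠ p := hp.out.one_lt.ne
      simp only [F, coeff_sub, coeff_C_mul, coeff_X_pow, if_neg hp1, mul_zero, coeff_X_one,
        coeff_C_of_ne_zero one_ne_zero]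
      ring
    have hdeg : F.degree ≠ 0 := by
      intro h
      have h2 : F.coeff 1 = 0 := coeff_eq_zero_of_degree_lt (by rw [h]; exact_mod_cast one_pos)
      rw [hF] at h2
      exact neg_ne_zero.2 one_ne_zero h2
    obtain ⟨y, hy⟩ := IsAlgClosed.exists_root F hdeg
    refine ⟨y, ?_⟩
    have h3 : F.eval y = 0 := hy
    simpa [F] using h3
  obtain ⟨ψ, hψ⟩ := huniv K (fun _ => y) (fun i => by
    simp only [map_sub, map_mul, map_pow, MvPolynomial.aeval_X, MvPolynomial.aeval_C]
    exact hy) (by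
    rw [Matrix.det_unique]
    have : (MvPolynomial.pderiv (0 : Fin 1)) (MvPolynomial.C c * MvPolynomial.X 0 ^ p - MvPolynomial.X 0 -
        MvPolynomial.C e : MvPolynomial (Fin 1) A) =
        MvPolynomial.C c * ((p : MvPolynomial (Fin 1) A) * MvPolynomial.X 0 ^ (p - 1)) - 1 := by
      rw [map_sub, map_sub, Derivation.leibniz, MvPolynomial.pderiv_C, MvPolynomial.pderiv_C, smul_zero, add_zero,
        Derivation.leibniz_pow, MvPolynomial.pderiv_X_self]
      simp
    change IsUnit (MvPolynomial.aeval (fun _ : Fin 1 => y) ((MvPolynomial.pderiv (0 : Fin 1)) _))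
    rw [this]
    simp only [map_sub, map_mul, map_pow, map_natCast, map_one, hpK, zero_mul, mul_zero, zero_sub]
    exact isUnit_one.neg)
  refine ⟨C, inferInstance, algebraMap A C, RingHom.etale_algebraMap.2 hC, ⟨⟨RingHom.ker ψ.toRingHom, RingHom.ker_isPrime _⟩, ?_⟩, x 0, ?_⟩
  · ext a
    change a ∈ Ideal.comap (algebraMap A C) (RingHom.ker ψ.toRingHom) ↔ _
    rw [Ideal.mem_comap, RingHom.mem_ker]
    have h1 : ψ.toRingHom (algebraMap A C a) = g a := ψ.commutes a
    rw [h1]
    change (algebraMap q.asIdeal.ResidueField K) (algebraMap A q.asIdeal.ResidueField a) = 0 ↔ _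
    rw [map_eq_zero, Ideal.algebraMap_residueField_eq_zero]
  · have h1 := hx 0
    simp only [map_sub, map_mul, map_pow, MvPolynomial.aeval_X, MvPolynomial.aeval_C] at h1
    exact sub_eq_zero.1 h1

end K56.T4
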