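import Groth.Agent.EtCoh.K56.Abs
import Groth.Agent.EtCoh.K56.Sol

/-!
# Local properties of the sheaf of two-forms of the projective plane of level `n`
-/

set_option autoImplicit false

universe u

open CategoryTheory CategoryTheory.Limits AlgebraicGeometry Opposite TopologicalSpace
open KaehlerDifferential K611.Gam K611.Gam2 K611.Frame K611.Sh K611.Seq K611.Seq2 K611.Top

noncomputable section

namespace K56.T4.P2

open Sec Abs

variable {P : Scheme.{u}} {W : Type u} [CommRing W] {D : P2 P W}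
variable {p n : ℕ} [hp : Fact p.Prime] {k : Type u} [Field k] {B : WB p n k W}

omit hp in
theorem smul_un (V : P.Etale) (m : ℕ) (ω : Om2 Γ(V.left, ⊤)) : m • un Om2F V ω = un Om2F V (m • ω) :=
  (map_nsmul (un Om2F V) m ω).symm

omit hp in
theorem nsmul_smul_vol {A : Type u} [CommRing A] (T : Tor p n A) (m : ℕ) (a : A) :
    m • (a • vol T.fr) = ((m : A) * a) • vol T.fr := by
  rw [mul_smul, Nat.cast_smul_eq_nsmul]

theorem sub_smul2_eq {A : Type u} [CommRing A] (a b c : A) (v : Om2 A) (h : a - b = c) :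
    a • v - b • v = c • v := by
  rw [← h, sub_smul2]

omit hp in
/-- The sheaf of two-forms is killed by `p^n`. -/
theorem pn_smul (D : P2 P W) (hB : B.HasTor) : (p ^ n) • 𝟙 (sh Om2F P) = 0 := by
  refine Base.hom_ext D.isBasis fun V hV s => ?_
  obtain ⟨T, -⟩ := exists_isT' hB V hV
  obtain ⟨ω, rfl⟩ := (un_bijective V hV.1).2 s
  obtain ⟨a, rfl⟩ := T.exists_smul_vol ω
  rw [nsmul_app, smul_un, nsmul_smul_vol, Nat.cast_pow, T.pn, zero_mul, zero_smul]
  exact map_zero (un Om2F V)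

omit hp in
/-- The sheaf of two-forms is flat over `ℤ/p^n`. -/
theorem flat (D : P2 P W) (hB : B.HasTor) : Flat (sh Om2F P) p n := by
  intro m hm U s hs x
  obtain ⟨V, g, v, hv, hV⟩ := D.isBasis U x
  obtain ⟨T, -⟩ := exists_isT' hB V hV
  obtain ⟨ω, hω⟩ := (un_bijective V hV.1).2 ((sh Om2F P).obj.map g.op s)
  obtain ⟨a, rfl⟩ := T.exists_smul_vol ω
  have h1 : p ^ m • (a • vol T.fr) = 0 := by
    apply (un_bijective V hV.1).1
    rw [← smul_un, hω, ← map_nsmul, hs, map_zero]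
    exact (map_zero (un Om2F V)).symm
  rw [nsmul_smul_vol, Nat.cast_pow] at h1
  have h2 : (p : Γ(V.left, ⊤)) ^ m * a = 0 := by
    apply T.smul_vol_inj
    rw [h1, zero_smul]
  obtain ⟨b, hb⟩ := T.flat m hm.le a h2
  refine ⟨V, g, ⟨v, hv⟩, un Om2F V (((p : Γ(V.left, ⊤)) ^ (n - m - 1) * b) • vol T.fr), ?_, ?_⟩
  · rw [smul_un, nsmul_smul_vol, ← hω, hb, ← mul_assoc, ← pow_succ']
    congr 4
    omega
  · rw [smul_un, nsmul_smul_vol, Nat.cast_pow, ← mul_assoc, ← pow_add]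
    have e : m + 1 + (n - m - 1) = n := by omega
    rw [e, T.pn, zero_mul, zero_smul]
    exact map_zero (un Om2F V)

/-- Sections over étale algebras. -/
theorem exists_hom_etale (V : P.Etale) (hV : IsAffine V.left) (v : V.left) {C : Type u} [CommRing C]
    (f : Γ(V.left, ⊤) →+* C) (hf : f.Etale) (q : PrimeSpectrum C) (hq : PrimeSpectrum.comap f q = V.left.isoSpec.hom v) :
    ∃ (V' : P.Etale) (g : V' ⟶ V) (w : V'.left), g.left w = v ∧ IsAffine V'.left ∧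
      ∃ e : C ≃+* Γ(V'.left, ⊤), ∀ a, e (f a) = g.left.appTop a := by
  obtain ⟨V', g, w, hw, hV', e, he⟩ := exists_etale_nhd V hV v (CommRingCat.of C) (CommRingCat.ofHom f) hf q hq
  refine ⟨V', g, w, hw, hV', e.commRingCatIsoToRingEquiv, fun a => ?_⟩
  exact congrArg (fun k : Γ(V.left, ⊤) ⟶ Γ(V'.left, ⊤) => k a) he

/-- `1 - S` is locally surjective on the `p`-torsion. -/
theorem locSurj (hB : B.HasTor) (hn : 0 < n) : LocSurj₁ (D.S hB) p := by
  intro U s hs x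
  obtain ⟨V, g, v, hv, hV⟩ := D.isBasis U x
  obtain ⟨T, i, h, hT⟩ := exists_isT' hB V hV
  have hVa := hV.1
  obtain ⟨ω, hω⟩ := (un_bijective V hV.1).2 ((sh Om2F P).obj.map g.op s)
  obtain ⟨a, rfl⟩ := T.exists_smul_vol ω
  have h1 : p • (a • vol T.fr) = 0 := by
    apply (un_bijective V hV.1).1
    rw [← smul_un, hω, ← map_nsmul, hs, map_zero]
    exact (map_zero (un Om2F V)).symm
  rw [nsmul_smul_vol] at h1
  have h2 : (p : Γ(V.left, ⊤)) ^ 1 * a = 0 := by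
    apply T.smul_vol_inj
    rw [pow_one, h1, zero_smul]
  obtain ⟨e, he⟩ := T.flat 1 hn a h2
  obtain ⟨C, _, f, hf, ⟨r, hr⟩, z, hz⟩ := exists_sol T.pn ((T.fr.x 0 * T.fr.x 1) ^ (p - 1)) e (V.left.isoSpec.hom v)
  obtain ⟨V', g', v', hv', hV', ε, hε⟩ := exists_hom_etale V hV.1 v f hf r hr
  obtain ⟨T', hT'⟩ := exists_isT hB i V' (h.of_hom g') hV'
  have hz' : g'.left.appTop ((T.fr.x 0 * T.fr.x 1) ^ (p - 1)) * ε z ^ p - ε z = g'.left.appTop e := by
    rw [← hε, ← hε, ← hz, map_sub, map_mul, map_pow ε z p]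
  have hx0 : g'.left.appTop (T.fr.x 0) = T'.fr.x 0 := by rw [hT.x0, hT'.x0, D.ev_res]
  have hx1 : g'.left.appTop (T.fr.x 1) = T'.fr.x 1 := by rw [hT.x1, hT'.x1, D.ev_res]
  rw [map_pow, map_mul, hx0, hx1] at hz'
  -- the solution
  have hpp : (p : Γ(V'.left, ⊤)) * (p : Γ(V'.left, ⊤)) ^ (n - 1) = 0 := by
    rw [← pow_succ']
    have : n - 1 + 1 = n := by omega
    rw [this, T'.pn]
  refine ⟨V', g' ≫ g, ⟨v', ?_⟩, un Om2F V' (((p : Γ(V'.left, ⊤)) ^ (n - 1) * (ε z ^ p *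
    (T'.fr.x 0 ^ (p - 1) * T'.fr.x 1 ^ (p - 1)))) • vol T'.fr), ?_, ?_⟩
  · change (g'.left ≫ g.left) v' = x
    rw [Scheme.Hom.comp_apply, hv', hv]
  · rw [smul_un, nsmul_smul_vol, ← mul_assoc, hpp, zero_mul, zero_smul]
    exact map_zero (un Om2F V')
  · rw [S_un hB V' hV' hT', Tor.S_smul_vol]
    have e1 : (sh Om2F P).obj.map (g' ≫ g).op s = un Om2F V' (res Om2F g' (a • vol T.fr)) := by
      rw [un_res, hω, op_comp, Functor.map_comp]
      rfl
    have e2 : res Om2F g' (a • vol T.fr) = g'.left.appTop a • vol T'.fr := by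
      change omap2 g'.left.appTop.hom (a • vol T.fr) = _
      rw [omap2_smul]
      congr 1
      unfold vol
      rw [omap2_w, omap_D, omap_D]
      change K611.Gam2.w (KaehlerDifferential.D ℤ _ (g'.left.appTop (T.fr.x 0))) (KaehlerDifferential.D ℤ _ (g'.left.appTop (T.fr.x 1))) = _
      rw [hx0, hx1]
    rw [e1, e2, ← map_sub]
    refine congrArg (un Om2F V') ?_
    refine sub_smul2_eq _ _ _ _ ?_
    obtain ⟨b, hb⟩ := T'.hφ (ε z)
    have e3 : T'.tc ((p : Γ(V'.left, ⊤)) ^ (n - 1) * (ε z ^ p * (T'.fr.x 0 ^ (p - 1) * T'.fr.x 1 ^ (p - 1)))) =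
        (p : Γ(V'.left, ⊤)) ^ (n - 1) * ε z := by
      have e4 : (p : Γ(V'.left, ⊤)) ^ (n - 1) * (ε z ^ p * (T'.fr.x 0 ^ (p - 1) * T'.fr.x 1 ^ (p - 1))) =
          T'.φ ((p : Γ(V'.left, ⊤)) ^ (n - 1) * ε z) * (T'.fr.x 0 ^ (p - 1) * T'.fr.x 1 ^ (p - 1)) := by
        rw [map_mul, map_pow, map_natCast, hb]
        linear_combination (-(T'.fr.x 0 ^ (p - 1) * T'.fr.x 1 ^ (p - 1)) * b) * hpp
      rw [e4, T'.tc_phi_mon _ (Nat.sub_lt hp.out.pos one_pos) (Nat.sub_lt hp.out.pos one_pos), if_pos ⟨rfl, rfl⟩]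
    rw [e3, he, map_mul, map_pow, map_natCast, ← hz', mul_pow]
    ring

end K56.T4.P2
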