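import Groth.Agent.Etbase.FreeSheaf
import Groth.Agent.Etbase.EtCartan
import Groth.Agent.Etbase.GaZar
import Mathlib.Algebra.MvPolynomial.Eval

/-!
# Charts of the projective plane; free abelian sheaves on open subsets of the étale site
-/

set_option autoImplicit false
universe u

open CategoryTheory CategoryTheory.Limits AlgebraicGeometry Opposite

noncomputable section

namespace K56.T4

/-- The charts of `P^2_W`. `y i j = x_j / x_i`. -/
structure P2 (P : Scheme.{u}) (W : Type u) [CommRing W] where
  /-- the charts -/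
  U : Fin 3 → P.Opens
  aff : ∀ i, IsAffineOpen (U i)
  cov : ∀ x : P, ∃ i, x ∈ U i
  /-- the constants -/
  w : W →+* Γ(P, ⊤)
  /-- the coordinates -/
  y : ∀ i _j : Fin 3, Γ(P, U i)
  y_self : ∀ i, y i i = 1
  inter : ∀ i j, U i ⊓ U j = P.basicOpen (y i j)
  mul : ∀ (i j l : Fin 3) (V : P.Opens) (hi : V ≤ U i) (hj : V ≤ U j),
    P.presheaf.map (homOfLE hi).op (y i j) * P.presheaf.map (homOfLE hj).op (y j l) = P.presheaf.map (homOfLE hi).op (y i l)
  chart : ∀ i, Function.Bijective (MvPolynomial.eval₂Hom ((P.presheaf.map (homOfLE (le_top (a := U i))).op).hom.comp w)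
    ![y i (i + 1), y i (i + 2)])

section nodeM

variable {P : Scheme.{u}}

/-- The presheaf of sets of an open subset. -/
def PO (U : P.Opens) : P.Etaleᵒᵖ ⥤ Type (u + 1) where
  obj T := ULift.{u + 1} (PLift (∀ t : T.unop.left, T.unop.hom t ∈ U))
  map {T T'} g := TypeCat.ofHom (fun h => ⟨⟨fun t => by
    have h1 : T'.unop.hom t = T.unop.hom (g.unop.left t) := by
      rw [← MorphismProperty.Over.w g.unop]; rfl
    rw [h1]
    exact h.down.down _⟩⟩)

/-- The free abelian sheaf on an open subset. -/
abbrev Zo (U : P.Opens) : EtCoh.Ab P := Groth.Agent.Etbase.FreeSheaf.Z _ (PO U)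

/-- The open subset as an object of the étale site. -/
abbrev ob (U : P.Opens) : P.Etale := (EtZar.zarToEt P).obj U

/-- Restriction of sections. -/
def rst (F : EtCoh.Ab P) {U V : P.Opens} (h : V ≤ U) : EtCoh.sect F (ob U) →+ EtCoh.sect F (ob V) :=
  (F.obj.map ((EtZar.zarToEt P).map (homOfLE h)).op).hom

end nodeM

end K56.T4
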