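import Groth.Agent.EtCoh.K56.Sec

/-!
# Sheaves with an operator: the fixed subsheaves `om m` of the `p^m`-torsion, and injectivity on `H³`
-/

set_option autoImplicit false

universe u

open CategoryTheory CategoryTheory.Limits AlgebraicGeometry Opposite TopologicalSpace
open CategoryTheory.Abelian (Ext)

noncomputable section

namespace K56.T4.Abs

open Sec

variable {X : Scheme.{u}} {F : EtCoh.Ab X} (S : F ⟶ F) (p : ℕ)

variable (F) in
/-- The `p^m`-torsion. -/
def K (m : ℕ) : EtCoh.Ab X := kernel ((p ^ m) • 𝟙 F)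

variable (F) in
/-- Its inclusion. -/
def ki (m : ℕ) : K F p m ⟶ F := kernel.ι _

instance mono_ki (m : ℕ) : Mono (ki F p m) := inferInstanceAs (Mono (kernel.ι _))

variable (F) in
theorem ki_smul (m : ℕ) : (p ^ m) • ki F p m = 0 := by
  have := kernel.condition ((p ^ m) • 𝟙 F)
  rw [Preadditive.comp_nsmul, Category.comp_id] at this
  exact this

/-- Maps into the torsion. -/
def kLift {G : EtCoh.Ab X} (m : ℕ) (f : G ⟶ F) (h : (p ^ m) • f = 0) : G ⟶ K F p m :=
  kernel.lift _ f (by rw [Preadditive.comp_nsmul, Category.comp_id, h])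

@[reassoc (attr := simp)]
theorem kLift_ki {G : EtCoh.Ab X} (m : ℕ) (f : G ⟶ F) (h : (p ^ m) • f = 0) : kLift p m f h ≫ ki F p m = f :=
  kernel.lift_ι _ _ _

/-- The operator on the torsion. -/
def SK (m : ℕ) : K F p m ⟶ K F p m :=
  kLift p m (ki F p m ≫ S) (by rw [← Preadditive.nsmul_comp, ki_smul, zero_comp])

@[reassoc (attr := simp)]
theorem SK_ki (m : ℕ) : SK S p m ≫ ki F p m = ki F p m ≫ S := kLift_ki _ _ _ _

/-- The fixed part of the torsion. -/
def om (m : ℕ) : EtCoh.Ab X := kernel (𝟙 (K F p m) - SK S p m)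

/-- Its inclusion in the torsion. -/
def ok (m : ℕ) : om S p m ⟶ K F p m := kernel.ι _

/-- Its inclusion. -/
def oi (m : ℕ) : om S p m ⟶ F := ok S p m ≫ ki F p m

instance (m : ℕ) : Mono (ok S p m) := inferInstanceAs (Mono (kernel.ι _))

instance (m : ℕ) : Mono (oi S p m) := inferInstanceAs (Mono (ok S p m ≫ ki F p m))

theorem oi_smul (m : ℕ) : (p ^ m) • oi S p m = 0 := by
  unfold oi
  rw [← Preadditive.comp_nsmul, ki_smul, comp_zero]

theorem ok_SK (m : ℕ) : ok S p m ≫ SK S p m = ok S p m := by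
  have := kernel.condition (𝟙 (K F p m) - SK S p m)
  rw [Preadditive.comp_sub, Category.comp_id, sub_eq_zero] at this
  exact this.symm

theorem oi_S (m : ℕ) : oi S p m ≫ S = oi S p m := by
  unfold oi
  rw [Category.assoc, ← SK_ki, ← Category.assoc, ok_SK]

/-- Maps into `om`. -/
def oLift {G : EtCoh.Ab X} (m : ℕ) (f : G ⟶ F) (h : (p ^ m) • f = 0) (hS : f ≫ S = f) : G ⟶ om S p m :=
  kernel.lift _ (kLift p m f h) (by
    rw [← cancel_mono (ki F p m), Preadditive.comp_sub, Category.comp_id, Preadditive.sub_comp, Category.assoc,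
      SK_ki, kLift_ki_assoc, kLift_ki, hS, sub_self, zero_comp])

@[reassoc (attr := simp)]
theorem oLift_oi {G : EtCoh.Ab X} (m : ℕ) (f : G ⟶ F) (h : (p ^ m) • f = 0) (hS : f ≫ S = f) :
    oLift S p m f h hS ≫ oi S p m = f := by
  have h1 : oLift S p m f h hS ≫ ok S p m = kLift p m f h := kernel.lift_ι _ _ _
  unfold oi
  rw [← Category.assoc, h1, kLift_ki]

/-- The inclusion `om a → om b`. -/
def incl {a b : ℕ} (h : a ≤ b) : om S p a ⟶ om S p b :=
  oLift S p b (oi S p a) (by
    obtain ⟨c, rfl⟩ := Nat.exists_eq_add_of_le h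
    rw [pow_add, mul_comm, mul_smul, oi_smul, smul_zero]) (oi_S S p a)

@[reassoc (attr := simp)]
theorem incl_oi {a b : ℕ} (h : a ≤ b) : incl S p h ≫ oi S p b = oi S p a := oLift_oi _ _ _ _ _ _

/-- Multiplication by `p`. -/
def mulp (m : ℕ) : om S p (m + 1) ⟶ om S p m :=
  oLift S p m (p • oi S p (m + 1)) (by rw [← mul_smul, ← pow_succ, oi_smul]) (by
    rw [Preadditive.nsmul_comp, oi_S])

@[reassoc (attr := simp)]
theorem mulp_oi (m : ℕ) : mulp S p m ≫ oi S p m = p • oi S p (m + 1) := oLift_oi _ _ _ _ _ _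

theorem incl_mulp (m : ℕ) : incl S p (Nat.le_add_left 1 m) ≫ mulp S p m = 0 := by
  rw [← cancel_mono (oi S p m), Category.assoc, mulp_oi, Preadditive.comp_nsmul, incl_oi, zero_comp]
  have := oi_smul S p 1
  rwa [pow_one] at this

/-- The sequence `om 1 → om (m + 1) → om m`. -/
def sc (m : ℕ) : ShortComplex (EtCoh.Ab X) :=
  ShortComplex.mk (incl S p (Nat.le_add_left 1 m)) (mulp S p m) (incl_mulp S p m)

instance {a b : ℕ} (h : a ≤ b) : Mono (incl S p h) := by
  have : Mono (incl S p h ≫ oi S p b) := by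
    rw [incl_oi]
    infer_instance
  exact mono_of_mono _ (oi S p b)

/-! ### Sections -/

variable (F) in
theorem ki_inj (m : ℕ) (V : X.Etale) : Function.Injective ((ki F p m).hom.app (op V)) :=
  Groth.Agent.CurvesA.SheafKer.injective_of_mono _ V

theorem oi_inj (m : ℕ) (V : X.Etale) : Function.Injective ((oi S p m).hom.app (op V)) :=
  Groth.Agent.CurvesA.SheafKer.injective_of_mono _ V

variable (F) in
theorem exists_ki (m : ℕ) (V : X.Etale) (s : EtCoh.sect F V) (hs : p ^ m • s = 0) :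
    ∃ t : EtCoh.sect (K F p m) V, (ki F p m).hom.app (op V) t = s :=
  kernel_sect _ V s (by rw [nsmul_app, hs])

variable (F) in
theorem ki_spec (m : ℕ) (V : X.Etale) (t : EtCoh.sect (K F p m) V) : p ^ m • (ki F p m).hom.app (op V) t = 0 := by
  have h := congrArg (fun f : K F p m ⟶ F => f.hom.app (op V) t) (kernel.condition ((p ^ m) • 𝟙 F))
  have h2 := nsmul_app (p ^ m) V ((ki F p m).hom.app (op V) t)
  exact h2.symm.trans h

theorem exists_oi (m : ℕ) (V : X.Etale) (s : EtCoh.sect F V) (hs : p ^ m • s = 0) (hS : S.hom.app (op V) s = s) :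
    ∃ t : EtCoh.sect (om S p m) V, (oi S p m).hom.app (op V) t = s := by
  obtain ⟨t, ht⟩ := exists_ki F p m V s hs
  have h1 : (𝟙 (K F p m) - SK S p m).hom.app (op V) t = 0 := by
    apply ki_inj F p m V
    have e1 : (𝟙 (K F p m) - SK S p m).hom.app (op V) t = t - (SK S p m).hom.app (op V) t := rfl
    have e2 : (ki F p m).hom.app (op V) ((SK S p m).hom.app (op V) t) = S.hom.app (op V) ((ki F p m).hom.app (op V) t) :=
      congrArg (fun f : K F p m ⟶ F => f.hom.app (op V) t) (SK_ki S p m)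
    rw [e1, map_sub, e2, ht, hS, sub_self, map_zero]
  obtain ⟨r, hr⟩ := kernel_sect _ V t h1
  refine ⟨r, ?_⟩
  change (ki F p m).hom.app (op V) ((ok S p m).hom.app (op V) r) = s
  rw [← ht]
  exact congrArg _ hr

theorem oi_spec (m : ℕ) (V : X.Etale) (t : EtCoh.sect (om S p m) V) : p ^ m • (oi S p m).hom.app (op V) t = 0 :=
  ki_spec F p m V _

theorem oi_spec' (m : ℕ) (V : X.Etale) (t : EtCoh.sect (om S p m) V) :
    S.hom.app (op V) ((oi S p m).hom.app (op V) t) = (oi S p m).hom.app (op V) t :=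
  congrArg (fun f : om S p m ⟶ F => f.hom.app (op V) t) (oi_S S p m)

theorem app_map {F G : EtCoh.Ab X} (φ : F ⟶ G) {U V : X.Etale} (g : V ⟶ U) (s : EtCoh.sect F U) :
    φ.hom.app (op V) (F.obj.map g.op s) = G.obj.map g.op (φ.hom.app (op U) s) :=
  congrArg (fun ψ => ψ s) (φ.hom.naturality g.op)

variable (F) in
/-- Local divisibility in the torsion. -/
def Flat (n : ℕ) : Prop := ∀ m < n, ∀ (U : X.Etale) (s : EtCoh.sect F U), p ^ m • s = 0 → ∀ x : U.left,
  ∃ (V : X.Etale) (g : V ⟶ U), (∃ v : V.left, g.left v = x) ∧ ∃ t : EtCoh.sect F V,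
    p • t = F.obj.map g.op s ∧ p ^ (m + 1) • t = 0

/-- Local surjectivity of `1 - S` on the `p`-torsion. -/
def LocSurj₁ : Prop := ∀ (U : X.Etale) (s : EtCoh.sect F U), p • s = 0 → ∀ x : U.left,
  ∃ (V : X.Etale) (g : V ⟶ U), (∃ v : V.left, g.left v = x) ∧ ∃ t : EtCoh.sect F V,
    p • t = 0 ∧ t - S.hom.app (op V) t = F.obj.map g.op s

theorem epi_mulp {n : ℕ} (h1 : Flat F p n) (h2 : LocSurj₁ S p) (m : ℕ) (hm : m < n) : Epi (mulp S p m) := by
  rw [Groth.Agent.Dix.EtaleSieve.epi_iff]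
  intro U s x
  obtain ⟨V, g, ⟨v, hv⟩, t, ht, ht'⟩ := h1 m hm U ((oi S p m).hom.app (op U) s) (oi_spec S p m U s) x
  have e1 : p • (t - S.hom.app (op V) t) = 0 := by
    rw [smul_sub, ← map_nsmul, ht, app_map, oi_spec', sub_self]
  obtain ⟨V', g', ⟨v', hv'⟩, r, hr, hr'⟩ := h2 V (t - S.hom.app (op V) t) e1 v
  let z : EtCoh.sect F V' := F.obj.map g'.op t - r
  have hz : p ^ (m + 1) • z = 0 := by
    change p ^ (m + 1) • (F.obj.map g'.op t - r) = 0
    rw [smul_sub, ← map_nsmul, ht', map_zero, pow_succ, mul_smul, hr, smul_zero, sub_zero]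
  have hz' : S.hom.app (op V') z = z := by
    change S.hom.app (op V') (F.obj.map g'.op t - r) = F.obj.map g'.op t - r
    rw [map_sub, app_map]
    have e2 : S.hom.app (op V') r = r - F.obj.map g'.op (t - S.hom.app (op V) t) := by
      rw [← hr']
      abel
    rw [e2, map_sub]
    abel
  obtain ⟨y, hy⟩ := exists_oi S p (m + 1) V' z hz hz'
  refine ⟨V', g' ≫ g, ⟨v', ?_⟩, y, ?_⟩
  · change (g'.left ≫ g.left) v' = x
    rw [Scheme.Hom.comp_apply, hv', hv]
  · apply oi_inj S p m V'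
    have e3 : (oi S p m).hom.app (op V') ((mulp S p m).hom.app (op V') y) =
        p • (oi S p (m + 1)).hom.app (op V') y := by
      have := congrArg (fun f : om S p (m + 1) ⟶ F => f.hom.app (op V') y) (mulp_oi S p m)
      refine this.trans ?_
      have h3 : p • oi S p (m + 1) = oi S p (m + 1) ≫ (p • 𝟙 F) := by rw [Preadditive.comp_nsmul, Category.comp_id]
      rw [h3]
      exact nsmul_app p V' _
    rw [e3, hy, app_map]
    change p • (F.obj.map g'.op t - r) = _
    rw [smul_sub, hr, sub_zero, ← map_nsmul, ht, op_comp, F.obj.map_comp]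
    rfl

theorem sc_exact (m : ℕ) : (sc S p m).Exact := by
  refine Groth.Agent.CurvesA.SheafKer.exact_of_sections (incl S p (Nat.le_add_left 1 m)) (mulp S p m)
    (fun U => Groth.Agent.CurvesA.SheafKer.injective_of_mono _ U) (fun U s hs => ?_) (incl_mulp S p m)
  have hs' : p • (oi S p (m + 1)).hom.app (op U) s = 0 := by
    have e3 : (oi S p m).hom.app (op U) ((mulp S p m).hom.app (op U) s) =
        p • (oi S p (m + 1)).hom.app (op U) s := by
      have := congrArg (fun f : om S p (m + 1) ⟶ F => f.hom.app (op U) s) (mulp_oi S p m)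
      refine this.trans ?_
      have h3 : p • oi S p (m + 1) = oi S p (m + 1) ≫ (p • 𝟙 F) := by rw [Preadditive.comp_nsmul, Category.comp_id]
      rw [h3]
      exact nsmul_app p U _
    rw [← e3]
    exact (congrArg ((oi S p m).hom.app (op U)) hs).trans (map_zero _)
  obtain ⟨t, ht⟩ := exists_oi S p 1 U _ (by rw [pow_one, hs']) (oi_spec' S p (m + 1) U s)
  refine ⟨t, oi_inj S p (m + 1) U ?_⟩
  have := congrArg (fun f : om S p 1 ⟶ F => f.hom.app (op U) t) (incl_oi S p (Nat.le_add_left 1 m))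
  exact this.trans ht

theorem sc_shortExact {n : ℕ} (h1 : Flat F p n) (h2 : LocSurj₁ S p) (m : ℕ) (hm : m < n) : (sc S p m).ShortExact where
  exact := sc_exact S p m
  mono_f := inferInstanceAs (Mono (incl S p (Nat.le_add_left 1 m)))
  epi_g := epi_mulp S p h1 h2 m hm

end K56.T4.Abs
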