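import Groth.Agent.EtCoh.K611.Pair

/-!
# Morphisms of étale sheaves from data on a basis of the small étale site
-/

set_option autoImplicit false

universe u

open CategoryTheory CategoryTheory.Limits AlgebraicGeometry Opposite

noncomputable section

namespace K56.T4.Base

open K611.Sh K611.Pair

variable {X : Scheme.{u}}

/-- A class of objects forming a basis. -/
def IsBasis (𝓑 : X.Etale → Prop) : Prop :=
  ∀ (U : X.Etale) (x : U.left), ∃ (V : X.Etale) (g : V ⟶ U) (v : V.left), g.left v = x ∧ 𝓑 V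

variable {𝓑 : X.Etale → Prop} (h𝓑 : IsBasis 𝓑)

include h𝓑 in
/-- Sections agreeing on the basis are equal. -/
theorem sect_ext (F : EtCoh.Ab X) (U : X.Etale) (s t : EtCoh.sect F U)
    (h : ∀ (V : X.Etale) (_ : 𝓑 V) (g : V ⟶ U), F.obj.map g.op s = F.obj.map g.op t) : s = t := by
  refine Groth.Agent.Etbase.EtSite.sect_ext F U s t fun x => ?_
  obtain ⟨V, g, v, hv, hV⟩ := h𝓑 U x
  exact ⟨V, g, v, hv, h V hV g⟩

include h𝓑 in
/-- Morphisms of sheaves agreeing on the basis are equal. -/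
theorem hom_ext {F G : EtCoh.Ab X} {φ ψ : F ⟶ G} (h : ∀ (V : X.Etale) (_ : 𝓑 V) (s : EtCoh.sect F V),
    φ.hom.app (op V) s = ψ.hom.app (op V) s) : φ = ψ := by
  apply Sheaf.hom_ext
  ext U s
  refine sect_ext h𝓑 G U.unop _ _ fun V hV g => ?_
  have e1 : G.obj.map g.op (φ.hom.app U s) = φ.hom.app (op V) (F.obj.map g.op s) :=
    (ConcreteCategory.congr_hom (φ.hom.naturality g.op) s).symm
  have e2 : G.obj.map g.op (ψ.hom.app U s) = ψ.hom.app (op V) (F.obj.map g.op s) :=
    (ConcreteCategory.congr_hom (ψ.hom.naturality g.op) s).symm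
  exact e1.trans ((h V hV _).trans e2.symm)

variable (G : X.Etaleᵒᵖ ⥤ AddCommGrpCat.{u + 1}) (H : EtCoh.Ab X)
  (φ : ∀ V : X.Etale, 𝓑 V → (G.obj (op V) →+ EtCoh.sect H V))
  (nat : ∀ (V W : X.Etale) (hV : 𝓑 V) (hW : 𝓑 W) (g : W ⟶ V) (s : G.obj (op V)),
    φ W hW (G.map g.op s) = H.obj.map g.op (φ V hV s))

include h𝓑 nat

theorem exists_unique_val (U : X.Etale) (s : G.obj (op U)) : ∃! t : EtCoh.sect H U,
    ∀ (W : X.Etale) (hW : 𝓑 W) (k : W ⟶ U), H.obj.map k.op t = φ W hW (G.map k.op s) := by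
  let D : ∀ V : X.Etale, (V ⟶ U) → EtCoh.sect H V → Prop := fun V g t =>
    ∀ (W : X.Etale) (hW : 𝓑 W) (k : W ⟶ V), H.obj.map k.op t = φ W hW (G.map (k ≫ g).op s)
  obtain ⟨t, ht⟩ := et_glue H U D (by
    intro x
    obtain ⟨V, g, v, hv, hV⟩ := h𝓑 U x
    refine ⟨V, g, v, hv, φ V hV (G.map g.op s), fun W hW k => ?_⟩
    rw [← nat V W hV hW k, op_comp, G.map_comp]
    rfl) (by
    intro V g t t' h h'
    exact sect_ext h𝓑 H V t t' fun W hW k => (h W hW k).trans (h' W hW k).symm) (by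
    intro V W g k t h W' hW' k'
    rw [map_comp_sect, h W' hW' (k' ≫ k), Category.assoc])
  refine ⟨t, fun W hW k => ?_, fun t' ht' => ?_⟩
  · refine ht W k _ fun W' hW' k' => ?_
    rw [← nat W W' hW hW' k', op_comp, G.map_comp]
    rfl
  · refine sect_ext h𝓑 H U _ _ fun W hW k => ?_
    rw [ht' W hW k]
    refine (ht W k _ fun W' hW' k' => ?_).symm
    rw [← nat W W' hW hW' k', op_comp, G.map_comp]
    rfl

/-- A morphism of sheaves from compatible maps on a basis. -/
theorem exists_hom : ∃ Φ : G ⟶ H.obj, ∀ (V : X.Etale) (hV : 𝓑 V) (s : G.obj (op V)), Φ.app (op V) s = φ V hV s := by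
  have hv := exists_unique_val h𝓑 G H φ nat
  let val : ∀ U : X.Etale, G.obj (op U) → EtCoh.sect H U := fun U s => (hv U s).choose
  have hval : ∀ (U : X.Etale) (s : G.obj (op U)) (W : X.Etale) (hW : 𝓑 W) (k : W ⟶ U),
      H.obj.map k.op (val U s) = φ W hW (G.map k.op s) := fun U s => (hv U s).choose_spec.1
  have hadd : ∀ (U : X.Etale) (s t : G.obj (op U)), val U (s + t) = val U s + val U t := by
    intro U s t
    refine sect_ext h𝓑 H U _ _ fun W hW k => ?_
    rw [map_add, hval _ _ W hW, hval _ _ W hW, hval _ _ W hW, map_add, map_add]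
  have hzero : ∀ U : X.Etale, val U 0 = 0 := by
    intro U
    have := hadd U 0 0
    rw [add_zero] at this
    exact left_eq_add.1 this
  refine ⟨{ app := fun U => AddCommGrpCat.ofHom ⟨⟨val U.unop, hzero U.unop⟩, hadd U.unop⟩, naturality := ?_ }, ?_⟩
  · intro U U' g
    ext s
    refine sect_ext h𝓑 H U'.unop _ _ fun W hW k => ?_
    change H.obj.map k.op (val U'.unop (G.map g s)) = H.obj.map k.op (H.obj.map g.unop.op (val U.unop s))
    rw [hval _ _ W hW, map_comp_sect, hval _ _ W hW, op_comp, G.map_comp]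
    rfl
  · intro V hV s
    change val V s = _
    have := hval V s V hV (𝟙 V)
    rw [op_id, H.obj.map_id, G.map_id] at this
    exact this

end K56.T4.Base
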