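import Groth.Agent.EtCoh.K56.Abs

/-!
# Cyclic `H²(om m)` and injectivity of `H³(om 1) → H³(om n)`
-/

set_option autoImplicit false

universe u

open CategoryTheory CategoryTheory.Limits AlgebraicGeometry Opposite TopologicalSpace
open CategoryTheory.Abelian (Ext)

noncomputable section

namespace K56.T4.Abs

open Sec

variable {X : Scheme.{u}}

theorem H_exact₂ {S : ShortComplex (EtCoh.Ab X)} (hS : S.ShortExact) (n : ℕ) (x : EtCoh.H X S.X₂ n)
    (hx : Sheaf.H.map S.g n x = 0) : ∃ y : EtCoh.H X S.X₁ n, Sheaf.H.map S.f n y = x :=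
  Ext.covariant_sequence_exact₂ _ hS x hx

theorem H_injective_of_surj {S : ShortComplex (EtCoh.Ab X)} (hS : S.ShortExact) (n : ℕ)
    (h : Function.Surjective (Sheaf.H.map S.g n)) : Function.Injective (Sheaf.H.map S.f (n + 1)) := by
  rw [injective_iff_map_eq_zero]
  intro x hx
  obtain ⟨z, hz⟩ := Ext.covariant_sequence_exact₁ _ hS x hx (n₀ := n) rfl
  obtain ⟨y, rfl⟩ := h z
  rw [← hz, Sheaf.H.map_apply]
  simp only [Ext.comp_assoc_of_second_deg_zero, ShortComplex.ShortExact.comp_extClass, Ext.comp_zero]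

theorem H_surj {S : ShortComplex (EtCoh.Ab X)} (hS : S.ShortExact) (n : ℕ) (h : Subsingleton (EtCoh.H X S.X₁ (n + 1))) :
    Function.Surjective (Sheaf.H.map S.g n) := fun z =>
  Ext.covariant_sequence_exact₃ _ hS z rfl (Subsingleton.elim _ _)

/-- Natural maps from sections over an object to degree two cohomology. -/
structure Cl (U : X.Etale) where
  /-- the maps -/
  e : ∀ F : EtCoh.Ab X, EtCoh.sect F U →+ EtCoh.H X F 2
  nat : ∀ (F G : EtCoh.Ab X) (f : F ⟶ G) (s : EtCoh.sect F U), e G (f.hom.app _ s) = Sheaf.H.map f 2 (e F s)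

section cyc

variable {F : EtCoh.Ab X} (S : F ⟶ F) (p : ℕ) {n : ℕ} (h0 : (p ^ n) • 𝟙 F = 0) (h1 : Flat F p n) (h2 : LocSurj₁ S p)
  {U : X.Etale} (c : Cl U) (θ : EtCoh.sect F U) (hθ : S.hom.app (op U) θ = θ)

include h0 hθ in
theorem exists_θ (m : ℕ) (hm : m ≤ n) : ∃ t : EtCoh.sect (om S p m) U, (oi S p m).hom.app (op U) t = p ^ (n - m) • θ := by
  refine exists_oi S p m U _ ?_ (by rw [map_nsmul, hθ])
  rw [← mul_smul, ← pow_add, Nat.add_sub_cancel' hm, ← nsmul_app, h0]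
  rfl

/-- The generators. -/
def th (m : ℕ) (hm : m ≤ n) : EtCoh.sect (om S p m) U := (exists_θ S p h0 θ hθ m hm).choose

theorem oi_th (m : ℕ) (hm : m ≤ n) : (oi S p m).hom.app (op U) (th S p h0 θ hθ m hm) = p ^ (n - m) • θ :=
  (exists_θ S p h0 θ hθ m hm).choose_spec

theorem mulp_app (m : ℕ) (V : X.Etale) (s : EtCoh.sect (om S p (m + 1)) V) :
    (oi S p m).hom.app (op V) ((mulp S p m).hom.app (op V) s) = p • (oi S p (m + 1)).hom.app (op V) s := by
  have := congrArg (fun f : om S p (m + 1) ⟶ F => f.hom.app (op V) s) (mulp_oi S p m)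
  refine this.trans ?_
  have h3 : p • oi S p (m + 1) = oi S p (m + 1) ≫ (p • 𝟙 F) := by rw [Preadditive.comp_nsmul, Category.comp_id]
  rw [h3]
  exact nsmul_app p V _

theorem incl_app {a b : ℕ} (h : a ≤ b) (V : X.Etale) (s : EtCoh.sect (om S p a) V) :
    (oi S p b).hom.app (op V) ((incl S p h).hom.app (op V) s) = (oi S p a).hom.app (op V) s :=
  congrArg (fun f : om S p a ⟶ F => f.hom.app (op V) s) (incl_oi S p h)

theorem mulp_th (m : ℕ) (hm : m + 1 ≤ n) : (mulp S p m).hom.app (op U) (th S p h0 θ hθ (m + 1) hm) =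
    th S p h0 θ hθ m (Nat.le_of_succ_le hm) := by
  apply oi_inj S p m U
  rw [mulp_app, oi_th, oi_th, ← mul_smul, ← pow_succ']
  congr 2
  omega

theorem incl_th (m : ℕ) (hm : m + 1 ≤ n) (h1n : 1 ≤ n) :
    (incl S p (Nat.le_add_left 1 m)).hom.app (op U) (th S p h0 θ hθ 1 h1n) = p ^ m • th S p h0 θ hθ (m + 1) hm := by
  apply oi_inj S p (m + 1) U
  rw [incl_app, map_nsmul, oi_th, oi_th, ← mul_smul, ← pow_add]
  congr 2
  omega

variable (hc : ∀ (h1n : 1 ≤ n) (z : EtCoh.H X (om S p 1) 2), ∃ r : ℤ, z = r • c.e _ (th S p h0 θ hθ 1 h1n))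

include h1 h2 hc

theorem cyclic (m : ℕ) (hm : m + 1 ≤ n) (z : EtCoh.H X (om S p (m + 1)) 2) :
    ∃ r : ℤ, z = r • c.e _ (th S p h0 θ hθ (m + 1) hm) := by
  induction m with
  | zero => exact hc hm z
  | succ m ih =>
    have hS := sc_shortExact S p h1 h2 (m + 1) (by omega)
    obtain ⟨r, hr⟩ := ih (by omega) (Sheaf.H.map (mulp S p (m + 1)) 2 z)
    have e1 : Sheaf.H.map (mulp S p (m + 1)) 2 (c.e _ (th S p h0 θ hθ (m + 1 + 1) hm)) =
        c.e _ (th S p h0 θ hθ (m + 1) (Nat.le_of_succ_le hm)) := by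
      rw [← c.nat, mulp_th]
    obtain ⟨y, hy⟩ := H_exact₂ hS 2 (z - r • c.e _ (th S p h0 θ hθ (m + 1 + 1) hm)) (by
      change Sheaf.H.map (mulp S p (m + 1)) 2 _ = 0
      rw [map_sub, map_zsmul, e1, hr, sub_self])
    obtain ⟨t, rfl⟩ := hc (by omega) y
    refine ⟨r + t * (p ^ (m + 1) : ℕ), ?_⟩
    have e2 : Sheaf.H.map (incl S p (Nat.le_add_left 1 (m + 1))) 2 (c.e _ (th S p h0 θ hθ 1 (by omega))) =
        p ^ (m + 1) • c.e _ (th S p h0 θ hθ (m + 1 + 1) hm) := by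
      rw [← c.nat, incl_th S p h0 θ hθ (m + 1) hm (by omega), map_nsmul]
    have e3 : Sheaf.H.map (incl S p (Nat.le_add_left 1 (m + 1))) 2 (t • c.e _ (th S p h0 θ hθ 1 (by omega))) =
      z - r • c.e _ (th S p h0 θ hθ (m + 1 + 1) hm) := hy
    rw [map_zsmul, e2] at e3
    rw [add_smul, mul_smul, natCast_zsmul, e3]
    abel

theorem surj_mulp (m : ℕ) (hm : m + 1 + 1 ≤ n) : Function.Surjective (Sheaf.H.map (mulp S p (m + 1)) 2) := by
  intro z
  obtain ⟨r, rfl⟩ := cyclic S p h0 h1 h2 c θ hθ hc m (by omega) z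
  refine ⟨r • c.e _ (th S p h0 θ hθ (m + 1 + 1) hm), ?_⟩
  rw [map_zsmul, ← c.nat, mulp_th]

/-- Injectivity on `H³`. -/
theorem injective_H3 (hn : 1 ≤ n) : Function.Injective (Sheaf.H.map (incl S p hn) 3) := by
  obtain ⟨m, rfl⟩ := Nat.exists_eq_add_of_le' hn
  rcases m with _ | m
  · have : incl S p hn = 𝟙 _ := by
      rw [← cancel_mono (oi S p (0 + 1)), incl_oi, Category.id_comp]
    rw [this]
    intro x y h
    simpa using h
  · exact H_injective_of_surj (sc_shortExact S p h1 h2 (m + 1) (by omega)) 2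
      (surj_mulp S p h0 h1 h2 c θ hθ hc m le_rfl)

end cyc

end K56.T4.Abs
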