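import Groth.Agent.EtCoh.K56.Img
import Groth.Agent.EtCoh.K56.Coh
import Groth.Agent.EtCoh.K554.Mv3

/-!
# Degree one and two cohomology of the `p`-torsion of the sheaf of two-forms of the projective plane
-/

set_option autoImplicit false

universe u

open CategoryTheory CategoryTheory.Limits AlgebraicGeometry Opposite TopologicalSpace
open KaehlerDifferential K611.Gam K611.Gam2 K611.Frame K611.Sh K611.Seq K611.Seq2 K611.Top

noncomputable section

namespace K56.T4.Abs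

open K554.Mv

attribute [local instance 3000] hsE hxE

variable {X : Scheme.{u}} {F : EtCoh.Ab X} (S : F ⟶ F) (p : ℕ)

/-- The sequence `om m → K m → K m`. -/
def scK (m : ℕ) : ShortComplex (EtCoh.Ab X) :=
  ShortComplex.mk (ok S p m) (𝟙 (K F p m) - SK S p m) (kernel.condition _)

theorem ki_SK (m : ℕ) (V : X.Etale) (t : EtCoh.sect (K F p m) V) :
    (ki F p m).hom.app (op V) ((SK S p m).hom.app (op V) t) = S.hom.app (op V) ((ki F p m).hom.app (op V) t) :=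
  congrArg (fun f : K F p m ⟶ F => f.hom.app (op V) t) (SK_ki S p m)

theorem one_sub_SK_app (m : ℕ) (V : X.Etale) (t : EtCoh.sect (K F p m) V) :
    (𝟙 (K F p m) - SK S p m).hom.app (op V) t = t - (SK S p m).hom.app (op V) t := rfl

theorem epi_one_sub_SK (h2 : LocSurj₁ S p) : Epi (𝟙 (K F p 1) - SK S p 1) := by
  rw [Groth.Agent.Dix.EtaleSieve.epi_iff]
  intro U s x
  have hs := ki_spec F p 1 U s
  rw [pow_one] at hs
  obtain ⟨V, g, hv, t, ht, ht'⟩ := h2 U _ hs x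
  obtain ⟨t, rfl⟩ := exists_ki F p 1 V t (by rw [pow_one, ht])
  refine ⟨V, g, hv, t, ?_⟩
  apply ki_inj F p 1 V
  rw [one_sub_SK_app, map_sub, ki_SK, ht']
  exact (app_map (ki F p 1) g s).symm

theorem scK_shortExact (h2 : LocSurj₁ S p) : (scK S p 1).ShortExact where
  exact := ShortComplex.exact_kernel (𝟙 (K F p 1) - SK S p 1)
  mono_f := inferInstanceAs (Mono (ok S p 1))
  epi_g := epi_one_sub_SK S p h2

end K56.T4.Abs

namespace K56.T4.P2

open Sec Abs K554.Mv K554.Mv3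

attribute [local instance 3000] hsE hxE

variable {P : Scheme.{u}} {W : Type u} [CommRing W] (D : P2 P W)

theorem cov_top : D.U 0 ⊔ (D.U 1 ⊔ D.U 2) = ⊤ := by
  rw [eq_top_iff]
  intro x _
  obtain ⟨i, hi⟩ := D.cov x
  fin_cases i
  · exact Or.inl hi
  · exact Or.inr (Or.inl hi)
  · exact Or.inr (Or.inr hi)

variable {p n : ℕ} {k : Type u} [Field k] {B : WB p n k W}

/-- Vanishing on the charts and their intersections. -/
abbrev Van (F : EtCoh.Ab P) : Prop := ∀ V ∈ ({D.U 0, D.U 1, D.U 2, D.U 0 ⊓ D.U 1, D.U 0 ⊓ D.U 2, D.U 1 ⊓ D.U 2} : Set P.Opens),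
  ∀ q : ℕ, Subsingleton (CategoryTheory.Abelian.Ext (Zo V) F (q + 1))

theorem H1K (hB : B.HasTor) (hV : D.Van (K (sh Om2F P) p 1)) : Subsingleton (EtCoh.H P (K (sh Om2F P) p 1) 1) := by
  classical
  refine e_one (D.U 0) (D.U 1) (D.U 2) D.cov_top _ hV (fun x y z h => ?_) (fun x y h => ?_)
  · have hx := ((D.ok_01 hB).imgK hB _).1 ⟨x, rfl⟩
    have hy := ((D.ok_02 hB).imgK hB _).1 ⟨y, rfl⟩
    have hz := ((D.ok_12 hB).imgK hB _).1 ⟨z, rfl⟩
    have hf := congrArg (D.LK hB) h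
    rw [map_add] at hf
    set f := D.LK hB (rst (K (sh Om2F P) p 1) D.tor_le_12 z) with hfdef
    have hpf : p • f = 0 := (D.LK_range hB f).1 ⟨_, rfl⟩
    obtain ⟨t1, ht1⟩ := (D.LK_range hB (f.filter fun m => 1 ≤ m.2)).2 (by
      rw [← Finsupp.filter_smul, hpf, Finsupp.filter_zero])
    obtain ⟨t2, ht2⟩ := (D.LK_range hB (f.filter fun m => ¬ 1 ≤ m.2)).2 (by
      rw [← Finsupp.filter_smul, hpf, Finsupp.filter_zero])
    obtain ⟨s, rfl⟩ := ((D.ok_1 hB).imgK hB t1).2 (by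
      rw [ht1]
      intro m hm
      rw [Finsupp.support_filter, Finset.mem_filter] at hm
      exact ⟨hm.2, hz m hm.1⟩)
    obtain ⟨t, rfl⟩ := ((D.ok_2 hB).imgK hB t2).2 (by
      rw [ht2]
      intro m hm
      rw [Finsupp.support_filter, Finset.mem_filter] at hm
      refine ⟨?_, hz m hm.1⟩
      have h1 := Finsupp.mem_support_iff.1 hm.1
      change f m ≠ 0 at h1
      have h2 : f m = D.LK hB (rst (K (sh Om2F P) p 1) D.tor_le_01 x) m +
          D.LK hB (rst (K (sh Om2F P) p 1) D.tor_le_02 y) m := congrArg (fun g : ℤ × ℤ →₀ W => g m) hf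
      rw [h2] at h1
      have h3 : D.LK hB (rst (K (sh Om2F P) p 1) D.tor_le_01 x) m = 0 := by
        by_contra h4
        exact hm.2 (hx m (Finsupp.mem_support_iff.2 h4))
      rw [h3, zero_add] at h1
      exact hy m (Finsupp.mem_support_iff.2 h1))
    refine ⟨s, t, ?_⟩
    apply (D.ok_12 hB).injK
    apply D.LK_inj hB
    rw [map_add, map_add, rst_rst, rst_rst, ht1, ht2, Finsupp.filter_add_filter_not]
  · have hx := ((D.ok_01 hB).imgK hB _).1 ⟨x, rfl⟩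
    have hy := ((D.ok_02 hB).imgK hB _).1 ⟨y, rfl⟩
    have h' : rst (K (sh Om2F P) p 1) D.tor_le_01 x = rst (K (sh Om2F P) p 1) D.tor_le_02 y := h
    obtain ⟨r, hr⟩ := ((D.ok_0 hB).imgK hB (rst (K (sh Om2F P) p 1) D.tor_le_01 x)).2 (fun m hm => ⟨by
      rw [h'] at hm
      exact hy m hm, hx m hm⟩)
    refine ⟨r, ?_, ?_⟩
    · apply (D.ok_01 hB).injK
      rw [rst_rst, hr]
    · apply (D.ok_02 hB).injK
      rw [rst_rst, hr, h']


theorem lau_single : D.lau (Finsupp.single 0 1) = 1 := by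
  change (Finsupp.single 0 1 : ℤ × ℤ →₀ W).sum (fun m w => D.cw _ w * D.tmon m) = 1
  rw [Finsupp.sum_single_index (by simp), map_one, tmon_zero, mul_one]

/-- The classes. -/
def cl : Cl (ob D.tor) where
  e := e (D.U 0) (D.U 1) (D.U 2) D.cov_top
  nat F G f s := e_nat _ _ _ _ F G f s

theorem exists_cl (hB : B.HasTor) (hn : 1 ≤ n) (hW : ∀ w : W, ∃ r : ℤ, (r : W) = w) (hV : D.Van (K (sh Om2F P) p 1))
    (h01 : ∀ x, D.cl.e (K (sh Om2F P) p 1) (rst _ D.tor_le_01 x) = 0)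
    (h02 : ∀ x, D.cl.e (K (sh Om2F P) p 1) (rst _ D.tor_le_02 x) = 0)
    (h12 : ∀ x, D.cl.e (K (sh Om2F P) p 1) (rst _ D.tor_le_12 x) = 0)
    (tθ : EtCoh.sect (K (sh Om2F P) p 1) (ob D.tor))
    (hθ : (ki (sh Om2F P) p 1).hom.app (op (ob D.tor)) tθ = p ^ (n - 1) • D.th 1)
    (z : EtCoh.H P (K (sh Om2F P) p 1) 2) : ∃ r : ℤ, z = r • D.cl.e _ tθ := by
  classical
  obtain ⟨t, rfl⟩ := e_surj (D.U 0) (D.U 1) (D.U 2) D.cov_top _ hV z
  change ∃ r : ℤ, D.cl.e _ t = r • D.cl.e _ tθ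
  have hLθ : D.LK hB tθ = p ^ (n - 1) • Finsupp.single 0 1 := by
    have e0 : D.th 1 = D.th (D.lau (Finsupp.single 0 1)) := by rw [lau_single]
    rw [LK_apply, hθ, e0, ← map_nsmul, ← map_nsmul, Lf_th_lau]
  have hpt : p • D.LK hB t = 0 := (D.LK_range hB _).1 ⟨t, rfl⟩
  obtain ⟨b, hb⟩ := B.flat 1 hn (D.LK hB t 0) (by
    have := congrArg (fun g : ℤ × ℤ →₀ W => g 0) hpt
    rw [pow_one, ← nsmul_eq_mul]
    exact this)
  obtain ⟨r, rfl⟩ := hW b
  refine ⟨r, ?_⟩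
  rw [← sub_eq_zero, ← map_zsmul, ← map_sub]
  set t' := t - r • tθ with ht'
  set f := D.LK hB t' with hf
  have hpf : p • f = 0 := (D.LK_range hB f).1 ⟨_, rfl⟩
  have hf0 : f 0 = 0 := by
    rw [hf, ht', map_sub, map_zsmul, hLθ]
    change D.LK hB t 0 - r • (p ^ (n - 1) • (Finsupp.single (0 : ℤ × ℤ) (1 : W)) 0) = 0
    rw [Finsupp.single_eq_same, hb, nsmul_one, zsmul_eq_mul, Nat.cast_pow, mul_comm, sub_self]
  obtain ⟨t1, ht1⟩ := (D.LK_range hB (f.filter fun m => 1 ≤ m.2)).2 (by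
    rw [← Finsupp.filter_smul, hpf, Finsupp.filter_zero])
  obtain ⟨t2, ht2⟩ := (D.LK_range hB ((f.filter fun m => ¬ 1 ≤ m.2).filter fun m => 1 ≤ m.1)).2 (by
    rw [← Finsupp.filter_smul, ← Finsupp.filter_smul, hpf, Finsupp.filter_zero, Finsupp.filter_zero])
  obtain ⟨t3, ht3⟩ := (D.LK_range hB ((f.filter fun m => ¬ 1 ≤ m.2).filter fun m => ¬ 1 ≤ m.1)).2 (by
    rw [← Finsupp.filter_smul, ← Finsupp.filter_smul, hpf, Finsupp.filter_zero, Finsupp.filter_zero])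
  have hsum : t' = t1 + (t2 + t3) := by
    apply D.LK_inj hB
    rw [map_add, map_add, ht1, ht2, ht3, Finsupp.filter_add_filter_not, Finsupp.filter_add_filter_not]
  obtain ⟨x, hx⟩ := ((D.ok_01 hB).imgK hB t1).2 (by
    rw [ht1]
    intro m hm
    rw [Finsupp.support_filter, Finset.mem_filter] at hm
    exact hm.2)
  obtain ⟨y, hy⟩ := ((D.ok_02 hB).imgK hB t2).2 (by
    rw [ht2]
    intro m hm
    rw [Finsupp.support_filter, Finset.mem_filter] at hm
    exact hm.2)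
  obtain ⟨w, hw⟩ := ((D.ok_12 hB).imgK hB t3).2 (by
    rw [ht3]
    intro m hm
    rw [Finsupp.support_filter, Finset.mem_filter, Finsupp.support_filter, Finset.mem_filter] at hm
    obtain ⟨⟨h1, h2⟩, h3⟩ := hm
    have h4 : m ≠ 0 := by
      rintro rfl
      exact Finsupp.mem_support_iff.1 h1 hf0
    have h5 : ¬ (m.1 = 0 ∧ m.2 = 0) := fun h => h4 (Prod.ext h.1 h.2)
    omega)
  rw [hsum, map_add, map_add, ← hx, ← hy, ← hw, h01, h02, h12, add_zero, add_zero]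

variable [hp : Fact p.Prime]

/-- MAIN, modulo the vanishing. -/
theorem injective_H3' (hB : B.HasTor) (hn : 1 ≤ n) (hW : ∀ w : W, ∃ r : ℤ, (r : W) = w)
    (hV : D.Van (K (sh Om2F P) p 1))
    (h01 : ∀ x, D.cl.e (K (sh Om2F P) p 1) (rst _ D.tor_le_01 x) = 0)
    (h02 : ∀ x, D.cl.e (K (sh Om2F P) p 1) (rst _ D.tor_le_02 x) = 0)
    (h12 : ∀ x, D.cl.e (K (sh Om2F P) p 1) (rst _ D.tor_le_12 x) = 0) :
    Function.Injective (Sheaf.H.map (incl (D.S hB) p hn) 3) := by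
  have hL := locSurj (D := D) hB hn
  have hS := scK_shortExact (D.S hB) p hL
  have h1K := D.H1K hB hV
  have hinj : Function.Injective (Sheaf.H.map (ok (D.S hB) p 1) 2) :=
    H_injective_of_surj hS 1 (fun z => ⟨0, @Subsingleton.elim _ h1K _ _⟩)
  refine injective_H3 (D.S hB) p (pn_smul D hB) (flat D hB) hL D.cl (D.th 1) (S_th hB) (fun h1n z => ?_) hn
  set τ := Abs.th (D.S hB) p (pn_smul D hB) (D.th 1) (S_th hB) 1 h1n with hτ
  have hki : (ki (sh Om2F P) p 1).hom.app (op (ob D.tor)) ((ok (D.S hB) p 1).hom.app (op (ob D.tor)) τ) =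
      p ^ (n - 1) • D.th 1 := oi_th (D.S hB) p (pn_smul D hB) (D.th 1) (S_th hB) 1 h1n
  obtain ⟨r, hr⟩ := D.exists_cl hB hn hW hV h01 h02 h12 _ hki (Sheaf.H.map (ok (D.S hB) p 1) 2 z)
  refine ⟨r, hinj ?_⟩
  rw [hr, map_zsmul, ← D.cl.nat]

end K56.T4.P2
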