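import Groth.Agent.EtCoh.K56.MainT4

/-!
# The group `H²(P, K 1)`: the class of `p^(n-1) θ` is a generator, is not zero; classes of Laurent polynomials
-/

set_option autoImplicit false

universe u

open CategoryTheory CategoryTheory.Limits AlgebraicGeometry Opposite TopologicalSpace
open KaehlerDifferential K611.Gam K611.Gam2 K611.Frame K611.Sh K611.Seq K611.Seq2 K611.Top

noncomputable section

namespace K56.T4.P2

open Sec Abs K554.Mv K554.Mv3

attribute [local instance 3000] hsE hxE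

variable {P : Scheme.{u}} {W : Type u} [CommRing W] (D : P2 P W)
variable {p n : ℕ} {k : Type u} [Field k] {B : WB p n k W}

theorem _root_.K56.T4.WB.pow_ne_zero (B : WB p n k W) (hn : 1 ≤ n) : (p : W) ^ (n - 1) ≠ 0 := by
  intro h
  obtain ⟨b, hb⟩ := B.flat (n - 1) (Nat.sub_le _ _) 1 (by rw [mul_one, h])
  have h1 : (1 : W) = 0 := by
    have e : n - (n - 1) = 1 := by omega
    rw [e, pow_one] at hb
    calc (1 : W) = 1 ^ n := (one_pow n).symm
      _ = ((p : W) * b) ^ n := by rw [← hb]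
      _ = 0 := by rw [mul_pow, B.pn, zero_mul]
  have h2 := congrArg B.π h1
  rw [map_one, map_zero] at h2
  exact one_ne_zero h2

theorem exists_tθ (hB : B.HasTor) (hn : 1 ≤ n) : ∃ t : EtCoh.sect (K (sh Om2F P) p 1) (ob D.tor),
    (ki (sh Om2F P) p 1).hom.app (op (ob D.tor)) t = p ^ (n - 1) • D.th 1 := by
  refine exists_ki (sh Om2F P) p 1 _ _ ?_
  rw [← mul_smul, ← pow_add, Nat.add_sub_cancel' hn, ← nsmul_app, pn_smul D hB]
  rfl

/-- The section `p^(n-1) θ` of the `p`-torsion. -/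
def tθ (hB : B.HasTor) (hn : 1 ≤ n) : EtCoh.sect (K (sh Om2F P) p 1) (ob D.tor) := (D.exists_tθ hB hn).choose

theorem ki_tθ (hB : B.HasTor) (hn : 1 ≤ n) : (ki (sh Om2F P) p 1).hom.app (op (ob D.tor)) (D.tθ hB hn) =
    p ^ (n - 1) • D.th 1 := (D.exists_tθ hB hn).choose_spec

theorem LK_of_ki (hB : B.HasTor) {t : EtCoh.sect (K (sh Om2F P) p 1) (ob D.tor)} {f : ℤ × ℤ →₀ W}
    (h : (ki (sh Om2F P) p 1).hom.app (op (ob D.tor)) t = D.th (D.lau f)) : D.LK hB t = f := by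
  rw [LK_apply, h, Lf_th_lau]

theorem LK_tθ (hB : B.HasTor) (hn : 1 ≤ n) : D.LK hB (D.tθ hB hn) = p ^ (n - 1) • Finsupp.single 0 1 := by
  apply D.LK_of_ki hB
  rw [ki_tθ, map_nsmul, map_nsmul, lau_single]

theorem e_eq (hB : B.HasTor) (hn : 1 ≤ n) (t : EtCoh.sect (K (sh Om2F P) p 1) (ob D.tor)) (r : ℤ)
    (h : D.LK hB t 0 = (p : W) ^ (n - 1) * (r : W)) : D.cl.e _ t = r • D.cl.e _ (D.tθ hB hn) := by
  classical
  rw [← sub_eq_zero, ← map_zsmul, ← map_sub]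
  set t' := t - r • D.tθ hB hn with ht'
  set f := D.LK hB t' with hf
  have hpf : p • f = 0 := (D.LK_range hB f).1 ⟨_, rfl⟩
  have hf0 : f 0 = 0 := by
    rw [hf, ht', map_sub, map_zsmul, LK_tθ]
    change D.LK hB t 0 - r • (p ^ (n - 1) • (Finsupp.single (0 : ℤ × ℤ) (1 : W)) 0) = 0
    rw [Finsupp.single_eq_same, h, nsmul_one, zsmul_eq_mul, Nat.cast_pow, mul_comm, sub_self]
  obtain ⟨t1, ht1⟩ := (D.LK_range hB (f.filter fun m => 1 ≤ m.2)).2 (by
    rw [← Finsupp.filter_smul, hpf, Finsupp.filter_zero])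
  obtain ⟨t2, ht2⟩ := (D.LK_range hB ((f.filter fun m => ¬ 1 ≤ m.2).filter fun m => 1 ≤ m.1)).2 (by
    rw [← Finsupp.filter_smul, ← Finsupp.filter_smul, hpf, Finsupp.filter_zero, Finsupp.filter_zero])
  obtain ⟨t3, ht3⟩ := (D.LK_range hB ((f.filter fun m => ¬ 1 ≤ m.2).filter fun m => ¬ 1 ≤ m.1)).2 (by
    rw [← Finsupp.filter_smul, ← Finsupp.filter_smul, hpf, Finsupp.filter_zero, Finsupp.filter_zero])
  have hsum : t' = t1 + (t2 + t3) := by
    apply D.LK_inj hB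
    rw [map_add, map_add, ht1, ht2, ht3, Finsupp.filter_add_filter_not, Finsupp.filter_add_filter_not]
  obtain ⟨x, hx⟩ := ((D.ok_01 hB).imgK hB t1).2 (by
    rw [ht1]
    intro m hm
    rw [Finsupp.support_filter, Finset.mem_filter] at hm
    exact hm.2)
  obtain ⟨y, hy⟩ := ((D.ok_02 hB).imgK hB t2).2 (by
    rw [ht2]
    intro m hm
    rw [Finsupp.support_filter, Finset.mem_filter] at hm
    exact hm.2)
  obtain ⟨w, hw⟩ := ((D.ok_12 hB).imgK hB t3).2 (by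
    rw [ht3]
    intro m hm
    rw [Finsupp.support_filter, Finset.mem_filter, Finsupp.support_filter, Finset.mem_filter] at hm
    obtain ⟨⟨h1, h2⟩, h3⟩ := hm
    have h4 : m ≠ 0 := by
      rintro rfl
      exact Finsupp.mem_support_iff.1 h1 hf0
    have h5 : ¬ (m.1 = 0 ∧ m.2 = 0) := fun h => h4 (Prod.ext h.1 h.2)
    omega)
  have h01 : D.cl.e (K (sh Om2F P) p 1) (rst _ D.tor_le_01 x) = 0 :=
    K154.Vanish.e_zero₁ (D.U 0) (D.U 1) (D.U 2) D.cov_top _ x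
  have h02 : D.cl.e (K (sh Om2F P) p 1) (rst _ D.tor_le_02 y) = 0 :=
    K154.Vanish.e_zero₂ (D.U 0) (D.U 1) (D.U 2) D.cov_top _ y
  have h12 : D.cl.e (K (sh Om2F P) p 1) (rst _ D.tor_le_12 w) = 0 :=
    K154.Vanish.e_zero₃ (D.U 0) (D.U 1) (D.U 2) D.cov_top _ w
  rw [hsum, map_add, map_add, ← hx, ← hy, ← hw, h01, h02, h12, add_zero, add_zero]

/-- (H2a) the class of `p^(n-1) θ` generates `H²(P, K 1)`. -/
theorem H2a (hB : B.HasTor) (hn : 1 ≤ n) (hW : ∀ w : W, ∃ r : ℤ, (r : W) = w) (z : EtCoh.H P (K (sh Om2F P) p 1) 2) :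
    ∃ r : ℤ, z = r • D.cl.e _ (D.tθ hB hn) :=
  D.exists_cl hB hn hW (D.van hB hn)
    (K154.Vanish.e_zero₁ (D.U 0) (D.U 1) (D.U 2) D.cov_top _)
    (K154.Vanish.e_zero₂ (D.U 0) (D.U 1) (D.U 2) D.cov_top _)
    (K154.Vanish.e_zero₃ (D.U 0) (D.U 1) (D.U 2) D.cov_top _) _ (D.ki_tθ hB hn) z

/-- Vanishing of classes: the constant term is zero. -/
theorem LK_zero_of_e (hB : B.HasTor) (hn : 1 ≤ n) (t : EtCoh.sect (K (sh Om2F P) p 1) (ob D.tor))
    (h : D.cl.e _ t = 0) : D.LK hB t 0 = 0 := by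
  obtain ⟨x, y, z, rfl⟩ := e_ker (D.U 0) (D.U 1) (D.U 2) D.cov_top _ (D.van hB hn) t h
  have hx := ((D.ok_01 hB).imgK hB _).1 ⟨x, rfl⟩ 0
  have hy := ((D.ok_02 hB).imgK hB _).1 ⟨y, rfl⟩ 0
  have hz := ((D.ok_12 hB).imgK hB _).1 ⟨z, rfl⟩ 0
  rw [map_add, map_add, Finsupp.add_apply, Finsupp.add_apply]
  have h1 : D.LK hB (rst _ D.tor_le_01 x) 0 = 0 := by
    by_contra h
    have := hx (Finsupp.mem_support_iff.2 h)
    simp at this
  have h2 : D.LK hB (rst _ D.tor_le_02 y) 0 = 0 := by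
    by_contra h
    have := hy (Finsupp.mem_support_iff.2 h)
    simp at this
  have h3 : D.LK hB (rst _ D.tor_le_12 z) 0 = 0 := by
    by_contra h
    have := hz (Finsupp.mem_support_iff.2 h)
    simp at this
  rw [h1, h2, h3, add_zero, add_zero]

/-- (H2b) the class of `p^(n-1) θ` is not zero. -/
theorem H2b (hB : B.HasTor) (hn : 1 ≤ n) : D.cl.e _ (D.tθ hB hn) ≠ 0 := by
  intro h
  have h1 := D.LK_zero_of_e hB hn _ h
  rw [LK_tθ] at h1
  change p ^ (n - 1) • (Finsupp.single (0 : ℤ × ℤ) (1 : W)) 0 = 0 at h1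
  rw [Finsupp.single_eq_same, nsmul_one, Nat.cast_pow] at h1
  exact B.pow_ne_zero hn h1

/-- (H2c) the class of `p^(n-1) f θ`, `f` a Laurent polynomial. -/
theorem H2c (hB : B.HasTor) (hn : 1 ≤ n) (f : ℤ × ℤ →₀ W) (t : EtCoh.sect (K (sh Om2F P) p 1) (ob D.tor))
    (ht : (ki (sh Om2F P) p 1).hom.app (op (ob D.tor)) t = p ^ (n - 1) • D.th (D.lau f)) (r : ℤ)
    (hr : (r : W) = f 0) : D.cl.e _ t = r • D.cl.e _ (D.tθ hB hn) := by
  apply D.e_eq hB hn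
  rw [D.LK_of_ki hB (f := p ^ (n - 1) • f) (by rw [ht, map_nsmul, map_nsmul])]
  change p ^ (n - 1) • f 0 = _
  rw [hr, nsmul_eq_mul, Nat.cast_pow]

end K56.T4.P2
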