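import Groth.Agent.EtCoh.K56.Tsec

/-!
# Sections of the `p`-torsion of the sheaf of two-forms as Laurent polynomials
-/

set_option autoImplicit false

universe u

open CategoryTheory CategoryTheory.Limits AlgebraicGeometry Opposite TopologicalSpace
open KaehlerDifferential K611.Gam K611.Gam2 K611.Frame K611.Sh K611.Seq K611.Seq2 K611.Top

noncomputable section

namespace K56.T4.P2

open Sec Abs

variable {P : Scheme.{u}} {W : Type u} [CommRing W] (D : P2 P W)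

/-- Translation of the exponents. -/
def shf (u : ℤ × ℤ) (f : ℤ × ℤ →₀ W) : ℤ × ℤ →₀ W := f.mapDomain (· + u)

theorem lau_shf (u : ℤ × ℤ) (f : ℤ × ℤ →₀ W) : D.lau (shf u f) = D.lau f * D.tmon u := by
  change (f.mapDomain (· + u)).sum (fun m w => D.cw _ w * D.tmon m) = f.sum (fun m w => D.cw _ w * D.tmon m) * _
  rw [Finsupp.sum_mapDomain_index (by simp) (by intros; rw [map_add, add_mul]), Finsupp.sum_mul]
  refine Finsupp.sum_congr fun m _ => ?_
  rw [tmon_add, mul_assoc]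

theorem mem_shf (u : ℤ × ℤ) (f : ℤ × ℤ →₀ W) (m : ℤ × ℤ) : m ∈ (shf u f).support ↔ ∃ m' ∈ f.support, m' + u = m := by
  classical
  rw [shf, Finsupp.mapDomain_support_of_injective (add_left_injective u), Finset.mem_image]

variable {p n : ℕ} {k : Type u} [Field k] {B : WB p n k W}

theorem img (hB : B.HasTor) {i : Fin 3} {V : P.Opens} (hV : IsAffineOpen V) (h : V ≤ D.U i) (ht : D.tor ≤ V)
    {C : ℤ × ℤ → Prop} (hr : ∀ f, (∃ g, rs ht g = D.lau f) ↔ ∀ m ∈ f.support, C m) (u : ℤ × ℤ)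
    (hu : D.ty i (i + 1) * D.ty i (i + 2) = D.tmon u) (f : ℤ × ℤ →₀ W) :
    (∃ s, rst (sh Om2F P) ht s = D.th (D.lau f)) ↔ ∀ m ∈ f.support, C (m - u) := by
  have hu' : D.tmon u * D.tmon (-u) = 1 := by rw [← tmon_add, add_neg_cancel, tmon_zero]
  have key : (∃ s, rst (sh Om2F P) ht s = D.th (D.lau f)) ↔ ∃ g, rs ht g = D.lau (shf (-u) f) := by
    constructor
    · rintro ⟨s, hs⟩
      obtain ⟨g, rfl⟩ := (D.fm_bij hB i V hV h).2 s
      rw [fm_rst, fm_tor D hB, hu] at hs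
      have := (D.th_bij hB).1 hs
      refine ⟨g, ?_⟩
      rw [lau_shf, ← this, mul_assoc, hu', mul_one]
    · rintro ⟨g, hg⟩
      refine ⟨D.fm i V h g, ?_⟩
      rw [fm_rst, fm_tor D hB, hu, hg, lau_shf, mul_assoc, mul_comm (D.tmon (-u)), hu', mul_one]
  rw [key, hr]
  constructor
  · intro H m hm
    refine H _ ((mem_shf _ _ _).2 ⟨m, hm, ?_⟩)
    rw [sub_eq_add_neg]
  · intro H m hm
    obtain ⟨m', hm', rfl⟩ := (mem_shf _ _ _).1 hm
    have := H m' hm'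
    rwa [sub_eq_add_neg] at this

theorem rst_inj (hB : B.HasTor) {i : Fin 3} {V : P.Opens} (hV : IsAffineOpen V) (h : V ≤ D.U i) (ht : D.tor ≤ V)
    (hi : Function.Injective (rs ht)) : Function.Injective (rst (sh Om2F P) ht) := by
  intro s s' hs
  obtain ⟨g, rfl⟩ := (D.fm_bij hB i V hV h).2 s
  obtain ⟨g', rfl⟩ := (D.fm_bij hB i V hV h).2 s'
  rw [fm_rst, fm_rst] at hs
  rw [hi ((D.fm_bij hB i D.tor D.aff_tor _).1 hs)]

/-- Sections over the torus as Laurent polynomials. -/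
def Lf (hB : B.HasTor) : EtCoh.sect (sh Om2F P) (ob D.tor) ≃+ (ℤ × ℤ →₀ W) :=
  (AddEquiv.ofBijective (D.th.comp D.lau) ((D.th_bij hB).comp D.lau_bijective)).symm

theorem th_lau_Lf (hB : B.HasTor) (t : EtCoh.sect (sh Om2F P) (ob D.tor)) : D.th (D.lau (D.Lf hB t)) = t :=
  (AddEquiv.ofBijective (D.th.comp D.lau) ((D.th_bij hB).comp D.lau_bijective)).apply_symm_apply t

theorem Lf_th_lau (hB : B.HasTor) (f : ℤ × ℤ →₀ W) : D.Lf hB (D.th (D.lau f)) = f :=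
  (AddEquiv.ofBijective (D.th.comp D.lau) ((D.th_bij hB).comp D.lau_bijective)).symm_apply_apply f

/-- Sections of the torsion over the torus as Laurent polynomials. -/
def LK (hB : B.HasTor) : EtCoh.sect (K (sh Om2F P) p 1) (ob D.tor) →+ (ℤ × ℤ →₀ W) :=
  (D.Lf hB).toAddMonoidHom.comp ((ki (sh Om2F P) p 1).hom.app (op (ob D.tor))).hom

theorem LK_apply (hB : B.HasTor) (t : EtCoh.sect (K (sh Om2F P) p 1) (ob D.tor)) :
    D.LK hB t = D.Lf hB ((ki (sh Om2F P) p 1).hom.app (op (ob D.tor)) t) := rfl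

theorem LK_inj (hB : B.HasTor) : Function.Injective (D.LK hB) :=
  (D.Lf hB).injective.comp (ki_inj _ p 1 _)

theorem LK_range (hB : B.HasTor) (f : ℤ × ℤ →₀ W) : (∃ t, D.LK hB t = f) ↔ p • f = 0 := by
  constructor
  · rintro ⟨t, rfl⟩
    rw [LK_apply, ← map_nsmul]
    have := ki_spec (sh Om2F P) p 1 _ t
    rw [pow_one] at this
    rw [this, map_zero]
  · intro h
    obtain ⟨t, ht⟩ := exists_ki (sh Om2F P) p 1 (ob D.tor) (D.th (D.lau f)) (by
      rw [pow_one, ← map_nsmul, ← map_nsmul, h, map_zero, map_zero])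
    refine ⟨t, ?_⟩
    rw [LK_apply, ht, Lf_th_lau]

theorem ki_rst {V V' : P.Opens} (h : V' ≤ V) (s : EtCoh.sect (K (sh Om2F P) p 1) (ob V)) :
    (ki (sh Om2F P) p 1).hom.app (op (ob V')) (rst _ h s) = rst (sh Om2F P) h ((ki (sh Om2F P) p 1).hom.app (op (ob V)) s) :=
  app_map (ki (sh Om2F P) p 1) (mor h) s

/-- Data on an intersection of charts. -/
structure Ok (V : P.Opens) (C : ℤ × ℤ → Prop) (ht : D.tor ≤ V) : Prop where
  inj : Function.Injective (rst (sh Om2F P) ht)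
  img : ∀ f, (∃ s, rst (sh Om2F P) ht s = D.th (D.lau f)) ↔ ∀ m ∈ f.support, C m

variable {D} in
theorem Ok.injK {V : P.Opens} {C : ℤ × ℤ → Prop} {ht : D.tor ≤ V} (H : D.Ok V C ht) :
    Function.Injective (rst (K (sh Om2F P) p 1) ht) := by
  intro s s' h
  apply ki_inj (sh Om2F P) p 1
  apply H.inj
  rw [← ki_rst, ← ki_rst, h]

variable {D} in
theorem Ok.imgK (hB : B.HasTor) {V : P.Opens} {C : ℤ × ℤ → Prop} {ht : D.tor ≤ V} (H : D.Ok V C ht)
    (t : EtCoh.sect (K (sh Om2F P) p 1) (ob D.tor)) :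
    (∃ s, rst (K (sh Om2F P) p 1) ht s = t) ↔ ∀ m ∈ (D.LK hB t).support, C m := by
  rw [← H.img]
  have e : D.th (D.lau (D.LK hB t)) = (ki (sh Om2F P) p 1).hom.app (op (ob D.tor)) t := by
    rw [LK_apply, th_lau_Lf]
  constructor
  · rintro ⟨s, rfl⟩
    exact ⟨(ki (sh Om2F P) p 1).hom.app (op (ob V)) s, by rw [e, ki_rst]⟩
  · rintro ⟨s, hs⟩
    have h1 : p ^ 1 • s = 0 := by
      apply H.inj
      rw [map_nsmul, hs, e, ki_spec, map_zero]
    obtain ⟨s', hs'⟩ := exists_ki (sh Om2F P) p 1 (ob V) s h1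
    refine ⟨s', ?_⟩
    apply ki_inj (sh Om2F P) p 1
    rw [ki_rst, hs', hs, e]

theorem ok_0 (hB : B.HasTor) : D.Ok (D.U 0) (fun m => 1 ≤ m.1 ∧ 1 ≤ m.2) (D.tor_le 0) where
  inj := D.rst_inj hB (D.aff 0) le_rfl _ (D.rs_inj 0)
  img f := by
    rw [D.img hB (D.aff 0) (i := 0) le_rfl (D.tor_le 0) (D.range_0) (1, 1) (by
      change D.ty 0 1 * D.ty 0 2 = _
      rw [← D.tmon_01, ← D.tmon_02, ← D.tmon_add]; rfl)]
    refine forall₂_congr fun m _ => ?_
    simp only [Prod.fst_sub, Prod.snd_sub]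
    omega

theorem ok_1 (hB : B.HasTor) : D.Ok (D.U 1) (fun m => 1 ≤ m.2 ∧ m.1 + m.2 ≤ -1) (D.tor_le 1) where
  inj := D.rst_inj hB (D.aff 1) le_rfl _ (D.rs_inj 1)
  img f := by
    rw [D.img hB (D.aff 1) (i := 1) le_rfl (D.tor_le 1) (D.range_1) (-2, 1) (by
      change D.ty 1 2 * D.ty 1 0 = _
      rw [← D.tmon_12, ← D.tmon_10, ← D.tmon_add]; rfl)]
    refine forall₂_congr fun m _ => ?_
    simp only [Prod.fst_sub, Prod.snd_sub]
    omega

theorem ok_2 (hB : B.HasTor) : D.Ok (D.U 2) (fun m => 1 ≤ m.1 ∧ m.1 + m.2 ≤ -1) (D.tor_le 2) where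
  inj := D.rst_inj hB (D.aff 2) le_rfl _ (D.rs_inj 2)
  img f := by
    rw [D.img hB (D.aff 2) (i := 2) le_rfl (D.tor_le 2) (D.range_2) (1, -2) (by
      change D.ty 2 0 * D.ty 2 1 = _
      rw [← D.tmon_20, ← D.tmon_21, ← D.tmon_add]; rfl)]
    refine forall₂_congr fun m _ => ?_
    simp only [Prod.fst_sub, Prod.snd_sub]
    omega

theorem tor_le_01 : D.tor ≤ D.U 0 ⊓ D.U 1 := le_inf (D.tor_le 0) (D.tor_le 1)
theorem tor_le_02 : D.tor ≤ D.U 0 ⊓ D.U 2 := le_inf (D.tor_le 0) (D.tor_le 2)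
theorem tor_le_12 : D.tor ≤ D.U 1 ⊓ D.U 2 := le_inf (D.tor_le 1) (D.tor_le 2)

theorem ok_01 (hB : B.HasTor) : D.Ok (D.U 0 ⊓ D.U 1) (fun m => 1 ≤ m.2) D.tor_le_01 where
  inj := D.rst_inj hB (i := 0) (D.aff2 0 1) inf_le_left _ (D.rs_inj2 0 1 _)
  img f := by
    rw [D.img hB (D.aff2 0 1) (i := 0) inf_le_left D.tor_le_01 (D.range_01 _) (1, 1) (by
      change D.ty 0 1 * D.ty 0 2 = _
      rw [← D.tmon_01, ← D.tmon_02, ← D.tmon_add]; rfl)]
    refine forall₂_congr fun m _ => ?_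
    simp only [Prod.fst_sub, Prod.snd_sub]
    omega

theorem ok_02 (hB : B.HasTor) : D.Ok (D.U 0 ⊓ D.U 2) (fun m => 1 ≤ m.1) D.tor_le_02 where
  inj := D.rst_inj hB (i := 0) (D.aff2 0 2) inf_le_left _ (D.rs_inj2 0 2 _)
  img f := by
    rw [D.img hB (D.aff2 0 2) (i := 0) inf_le_left D.tor_le_02 (D.range_02 _) (1, 1) (by
      change D.ty 0 1 * D.ty 0 2 = _
      rw [← D.tmon_01, ← D.tmon_02, ← D.tmon_add]; rfl)]
    refine forall₂_congr fun m _ => ?_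
    simp only [Prod.fst_sub, Prod.snd_sub]
    omega

theorem ok_12 (hB : B.HasTor) : D.Ok (D.U 1 ⊓ D.U 2) (fun m => m.1 + m.2 ≤ -1) D.tor_le_12 where
  inj := D.rst_inj hB (i := 1) (D.aff2 1 2) inf_le_left _ (D.rs_inj2 1 2 _)
  img f := by
    rw [D.img hB (D.aff2 1 2) (i := 1) inf_le_left D.tor_le_12 (D.range_12 _) (-2, 1) (by
      change D.ty 1 2 * D.ty 1 0 = _
      rw [← D.tmon_12, ← D.tmon_10, ← D.tmon_add]; rfl)]
    refine forall₂_congr fun m _ => ?_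
    simp only [Prod.fst_sub, Prod.snd_sub]
    omega

end K56.T4.P2
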