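import Groth.Agent.EtCoh.K56.P2S
import Groth.Agent.EtCoh.K103.Tor
import Mathlib.Algebra.Field.ULift
import Mathlib.FieldTheory.Perfect

/-!
# The base ring `ℤ/p^n`
-/

set_option autoImplicit false

universe u

open CategoryTheory CategoryTheory.Limits AlgebraicGeometry Opposite
open KaehlerDifferential

noncomputable section

namespace K56.T4

variable (p n : ℕ)

/-- `ℤ/p^n` -/
abbrev Zw : Type u := ULift.{u} (ZMod (p ^ n))

/-- `ℤ/p` -/
abbrev Fp : Type u := ULift.{u} (ZMod p)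

theorem Zw.int_surj (w : Zw.{u} p n) : ∃ r : ℤ, (r : Zw.{u} p n) = w := by
  obtain ⟨r, hr⟩ := ZMod.intCast_surjective w.down
  exact ⟨r, ULift.ext _ _ hr⟩

variable [hp : Fact p.Prime]

/-- Reduction. -/
def redw (hn : 1 ≤ n) : Zw.{u} p n →+* Fp.{u} p :=
  (ULift.ringEquiv.symm.toRingHom.comp (ZMod.castHom (dvd_pow_self p (by omega) : p ∣ p ^ n) (ZMod p))).comp
    ULift.ringEquiv.toRingHom

omit hp in
theorem pow_zero_Zw : (p : Zw.{u} p n) ^ n = 0 := by
  apply ULift.ext
  have := ZMod.natCast_self (p ^ n)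
  rwa [Nat.cast_pow] at this

/-- The base ring. -/
def WBz (hn : 1 ≤ n) : WB p n (Fp.{u} p) (Zw.{u} p n) where
  π := redw p n hn
  surj w := by
    obtain ⟨r, hr⟩ := ZMod.intCast_surjective w.down
    refine ⟨r, ?_⟩
    rw [map_intCast]
    exact ULift.ext _ _ hr
  ker := by
    ext w
    obtain ⟨r, rfl⟩ := Zw.int_surj p n w
    rw [RingHom.mem_ker, map_intCast, Ideal.mem_span_singleton]
    constructor
    · intro h
      have h1 : ((r : ℤ) : ZMod p) = 0 := congrArg ULift.down h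
      rw [ZMod.intCast_zmod_eq_zero_iff_dvd] at h1
      obtain ⟨s, rfl⟩ := h1
      exact ⟨s, by push_cast; rfl⟩
    · rintro ⟨b, hb⟩
      obtain ⟨s, rfl⟩ := Zw.int_surj p n b
      have h1 := congrArg (redw p n hn) hb
      rw [map_intCast, map_mul, map_natCast, CharP.cast_eq_zero, zero_mul] at h1
      exact h1
  pn := pow_zero_Zw p n
  flat i hi w h := by
    obtain ⟨r, rfl⟩ := Zw.int_surj p n w
    have h1 : (((p : ℤ) ^ i * r : ℤ) : ZMod (p ^ n)) = 0 := by
      have := congrArg ULift.down h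
      push_cast
      exact this
    rw [ZMod.intCast_zmod_eq_zero_iff_dvd] at h1
    have h2 : ((p : ℤ) ^ (n - i)) ∣ r := by
      have h3 : ((p ^ n : ℕ) : ℤ) = (p : ℤ) ^ i * (p : ℤ) ^ (n - i) := by
        rw [← pow_add, Nat.add_sub_cancel' hi]
        push_cast
        rfl
      rw [h3] at h1
      exact (mul_dvd_mul_iff_left (pow_ne_zero _ (Int.natCast_ne_zero.2 hp.out.ne_zero))).1 h1
    obtain ⟨s, rfl⟩ := h2
    exact ⟨s, by push_cast; rfl⟩
  σ := RingHom.id _
  hσ w := by
    obtain ⟨r, rfl⟩ := Zw.int_surj p n w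
    have h1 : (p : ℤ) ∣ r - r ^ p := by
      rw [← ZMod.intCast_zmod_eq_zero_iff_dvd]
      push_cast
      rw [ZMod.pow_card, sub_self]
    obtain ⟨s, hs⟩ := h1
    refine ⟨s, ?_⟩
    change (r : Zw.{u} p n) = _
    have : r = r ^ p + p * s := by rw [← hs]; ring
    conv_lhs => rw [this]
    push_cast
    rfl
  om := by
    have hsurj : Function.Surjective (algebraMap ℤ (Zw.{u} p n)) := fun w => Zw.int_surj p n w
    exact KaehlerDifferential.subsingleton_of_surjective ℤ (Zw.{u} p n) hsurj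

theorem hasTor (hn : 1 ≤ n) : (WBz.{u} p n hn).HasTor := fun _ _ i hi => K103.Tor.exists_tor _ i hi

end K56.T4
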