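import Groth.Agent.EtCoh.K56.Fin
import Groth.Agent.EtCoh.K56.ZW
import Groth.Agent.EtCoh.K154.Vanish
import Groth.Agent.EtCoh.K958.P2Charts

/-!
# Injectivity of `H³(om 1) → H³(om m)` on the projective plane of level `n`
-/

set_option autoImplicit false

universe u

open CategoryTheory CategoryTheory.Limits AlgebraicGeometry Opposite TopologicalSpace
open KaehlerDifferential K611.Gam K611.Gam2 K611.Frame K611.Sh K611.Seq K611.Seq2 K611.Top

noncomputable section

namespace K56.T4.P2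

open Sec Abs K554.Mv K554.Mv3

attribute [local instance 3000] hsE hxE

variable {P : Scheme.{u}} {W : Type u} [CommRing W] (D : P2 P W)
variable {p n : ℕ} {k : Type u} [Field k] {B : WB p n k W}

theorem van (hB : B.HasTor) (hn : 1 ≤ n) : D.Van (K (sh Om2F P) p 1) := by
  intro V hV q
  rcases hV with rfl | rfl | rfl | rfl | rfl | rfl
  · exact K154.Vanish.vanish hB _ (D.aff 0) 0 le_rfl 1 hn q
  · exact K154.Vanish.vanish hB _ (D.aff 1) 1 le_rfl 1 hn q
  · exact K154.Vanish.vanish hB _ (D.aff 2) 2 le_rfl 1 hn q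
  · exact K154.Vanish.vanish hB _ (D.aff2 0 1) 0 inf_le_left 1 hn q
  · exact K154.Vanish.vanish hB _ (D.aff2 0 2) 0 inf_le_left 1 hn q
  · exact K154.Vanish.vanish hB _ (D.aff2 1 2) 1 inf_le_left 1 hn q

variable [hp : Fact p.Prime]

/-- **MAIN of T4**: `H³(om 1) → H³(om n)` is injective. -/
theorem injective_H3 (hB : B.HasTor) (hn : 1 ≤ n) (hW : ∀ w : W, ∃ r : ℤ, (r : W) = w) :
    Function.Injective (Sheaf.H.map (incl (D.S hB) p hn) 3) :=
  D.injective_H3' hB hn hW (D.van hB hn)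
    (K154.Vanish.e_zero₁ (D.U 0) (D.U 1) (D.U 2) D.cov_top _)
    (K154.Vanish.e_zero₂ (D.U 0) (D.U 1) (D.U 2) D.cov_top _)
    (K154.Vanish.e_zero₃ (D.U 0) (D.U 1) (D.U 2) D.cov_top _)

theorem incl_incl {X : Scheme.{u}} {F : EtCoh.Ab X} (S : F ⟶ F) (p : ℕ) {a b c : ℕ} (h : a ≤ b) (h' : b ≤ c) :
    incl S p h ≫ incl S p h' = incl S p (h.trans h') := by
  rw [← cancel_mono (oi S p c), Category.assoc, incl_oi, incl_oi, incl_oi]

/-- `H³(om 1) → H³(om m)` is injective for `m ≤ n`. -/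
theorem injective_H3_le (hB : B.HasTor) {m : ℕ} (hm : 1 ≤ m) (hmn : m ≤ n) (hW : ∀ w : W, ∃ r : ℤ, (r : W) = w) :
    Function.Injective (Sheaf.H.map (incl (D.S hB) p hm) 3) := by
  have h := D.injective_H3 hB (hm.trans hmn) hW
  rw [← incl_incl (D.S hB) p hm hmn] at h
  intro x y hxy
  apply h
  rw [Sheaf.H.map_comp_apply, Sheaf.H.map_comp_apply, hxy]

end K56.T4.P2

namespace K56.T4

open Abs

variable (p n : ℕ) [hp : Fact p.Prime]

/-- The projective plane over `ℤ/p^n`. -/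
abbrev Pz : Scheme.{u} := CohB1.ProjSpaceOver 2 (Spec (CommRingCat.of (Zw.{u} p n)))

/-- Its charts. -/
abbrev Dz : P2 (Pz.{u} p n) (Zw.{u} p n) := K958.P2Charts.p2 (Zw.{u} p n)

/-- `H³(om 1) → H³(om m)` is injective on the projective plane over `ℤ/p^n`, `m ≤ n`. -/
theorem injective_H3_Pz {m : ℕ} (hm : 1 ≤ m) (hmn : m ≤ n) :
    Function.Injective (Sheaf.H.map (incl ((Dz.{u} p n).S (hasTor p n (hm.trans hmn))) p hm) 3) :=
  (Dz.{u} p n).injective_H3_le (hasTor p n (hm.trans hmn)) hm hmn (Zw.int_surj p n)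

end K56.T4
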