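import Groth.Agent.EtCoh.K56.Defs
import Groth.Agent.EtCoh.K56.TorS
import Groth.Agent.EtCoh.K56.Base
import Groth.Agent.EtCoh.K611.Seq2
import Mathlib.RingTheory.Unramified.Basic

/-!
# The Cartier operator on the étale sheaf of two-forms of the projective plane of level `n`
-/

set_option autoImplicit false

universe u

open CategoryTheory CategoryTheory.Limits AlgebraicGeometry Opposite
open KaehlerDifferential K611.Gam K611.Gam2 K611.Frame K611.Sh K611.Seq K611.Seq2 K611.Top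

noncomputable section

namespace K56.T4

/-- Uniqueness of lifts along étale maps. -/
theorem hom_unique {p n : ℕ} {R A A' : Type u} [CommRing R] [CommRing A] [CommRing A'] (i : R →+* A) (hi : i.Etale)
    (hpn : (p : A') ^ n = 0) (f g : A →+* A') (h : ∀ r, f (i r) = g (i r)) (h1 : ∀ a, ∃ b, f a = g a + (p : A') * b) :
    f = g := by
  let := i.toAlgebra
  have : Algebra.Etale R A := hi
  let : Algebra R A' := (f.comp i).toAlgebra
  let f' : A →ₐ[R] A' := { f with commutes' := fun r => rfl }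
  let g' : A →ₐ[R] A' := { g with commutes' := fun r => (h r).symm }
  have hI : IsNilpotent (Ideal.span {(p : A')}) := by
    refine ⟨n, ?_⟩
    rw [Ideal.span_singleton_pow, hpn, Ideal.zero_eq_bot, Ideal.span_singleton_eq_bot]
  have e : f' = g' := by
    refine Algebra.FormallyUnramified.ext _ hI fun a => ?_
    rw [Ideal.Quotient.eq, Ideal.mem_span_singleton]
    obtain ⟨b, hb⟩ := h1 a
    exact ⟨b, by change f a - g a = _; rw [hb]; ring⟩
  exact congrArg (fun k : A →ₐ[R] A' => (k : A →+* A')) e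

theorem appLE_appTop {X' X Y : Scheme.{u}} (g : X' ⟶ X) (f : X ⟶ Y) (U : Y.Opens) (h : ⊤ ≤ f ⁻¹ᵁ U)
    (h' : ⊤ ≤ (g ≫ f) ⁻¹ᵁ U) : f.appLE U ⊤ h ≫ g.appTop = (g ≫ f).appLE U ⊤ h' := by
  rw [← Scheme.Hom.appLE_comp_appLE g f U ⊤ ⊤ h le_top]
  congr 1
  exact (Scheme.Hom.appLE_eq_app g).symm

theorem appLE_congr_hom {X Y : Scheme.{u}} {f f' : X ⟶ Y} (e : f = f') (U : Y.Opens) (h : ⊤ ≤ f ⁻¹ᵁ U)
    (h' : ⊤ ≤ f' ⁻¹ᵁ U) : f.appLE U ⊤ h = f'.appLE U ⊤ h' := by
  subst e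
  rfl

namespace P2

variable {P : Scheme.{u}} {W : Type u} [CommRing W] (D : P2 P W)

/-- `V` lies over the chart `U i`. -/
def Ov (i : Fin 3) (V : P.Etale) : Prop := ∀ v : V.left, V.hom v ∈ D.U i

variable {D} in
theorem Ov.le {i : Fin 3} {V : P.Etale} (h : D.Ov i V) : (⊤ : V.left.Opens) ≤ V.hom ⁻¹ᵁ D.U i := fun v _ => h v

variable {D} in
theorem Ov.of_hom {i : Fin 3} {V V' : P.Etale} (h : D.Ov i V) (g : V' ⟶ V) : D.Ov i V' := fun v => by
  have h1 : V'.hom v = V.hom (g.left v) := by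
    rw [← MorphismProperty.Over.w g]; rfl
  rw [h1]
  exact h _

/-- The functions on the chart, restricted to `V`. -/
def ev (i : Fin 3) (V : P.Etale) (h : D.Ov i V) : Γ(P, D.U i) →+* Γ(V.left, ⊤) := (V.hom.appLE (D.U i) ⊤ h.le).hom

/-- The coordinate ring of the chart. -/
def ch (i : Fin 3) : MvPolynomial (Fin 2) W →+* Γ(P, D.U i) :=
  MvPolynomial.eval₂Hom ((P.presheaf.map (homOfLE (le_top (a := D.U i))).op).hom.comp D.w) ![D.y i (i + 1), D.y i (i + 2)]

/-- The structure map over the chart `U i`. -/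
def str (i : Fin 3) (V : P.Etale) (h : D.Ov i V) : MvPolynomial (Fin 2) W →+* Γ(V.left, ⊤) := (D.ev i V h).comp (D.ch i)

theorem str_C (i : Fin 3) (V : P.Etale) (h : D.Ov i V) (w : W) : D.str i V h (.C w) = V.hom.appTop (D.w w) := by
  change D.ev i V h (D.ch i (.C w)) = _
  unfold ch ev
  rw [MvPolynomial.coe_eval₂Hom, MvPolynomial.eval₂_C]
  change (P.presheaf.map _ ≫ V.hom.appLE (D.U i) ⊤ h.le) (D.w w) = _
  rw [Scheme.Hom.map_appLE]
  change V.hom.appLE ⊤ ⊤ _ (D.w w) = _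
  rw [Scheme.Hom.appTop, ← Scheme.Hom.appLE_eq_app]
  rfl

theorem str_X0 (i : Fin 3) (V : P.Etale) (h : D.Ov i V) : D.str i V h (.X 0) = D.ev i V h (D.y i (i + 1)) := by
  change D.ev i V h (D.ch i (.X 0)) = _
  unfold ch
  rw [MvPolynomial.coe_eval₂Hom, MvPolynomial.eval₂_X]
  rfl

theorem str_X1 (i : Fin 3) (V : P.Etale) (h : D.Ov i V) : D.str i V h (.X 1) = D.ev i V h (D.y i (i + 2)) := by
  change D.ev i V h (D.ch i (.X 1)) = _
  unfold ch
  rw [MvPolynomial.coe_eval₂Hom, MvPolynomial.eval₂_X]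
  rfl

theorem ev_mul (i j l : Fin 3) (V : P.Etale) (hi : D.Ov i V) (hj : D.Ov j V) :
    D.ev i V hi (D.y i j) * D.ev j V hj (D.y j l) = D.ev i V hi (D.y i l) := by
  have hle : (⊤ : V.left.Opens) ≤ V.hom ⁻¹ᵁ (D.U i ⊓ D.U j) := fun v _ => ⟨hi v, hj v⟩
  have h1 : ∀ a, D.ev i V hi a = V.hom.appLE (D.U i ⊓ D.U j) ⊤ hle
      (P.presheaf.map (homOfLE (inf_le_left : D.U i ⊓ D.U j ≤ D.U i)).op a) := by
    intro a
    change _ = (P.presheaf.map _ ≫ V.hom.appLE (D.U i ⊓ D.U j) ⊤ hle) a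
    rw [Scheme.Hom.map_appLE]
    rfl
  have h2 : ∀ a, D.ev j V hj a = V.hom.appLE (D.U i ⊓ D.U j) ⊤ hle
      (P.presheaf.map (homOfLE (inf_le_right : D.U i ⊓ D.U j ≤ D.U j)).op a) := by
    intro a
    change _ = (P.presheaf.map _ ≫ V.hom.appLE (D.U i ⊓ D.U j) ⊤ hle) a
    rw [Scheme.Hom.map_appLE]
    rfl
  rw [h1, h1, h2, ← map_mul, D.mul i j l _ inf_le_left inf_le_right]

theorem ev_res (i : Fin 3) {V V' : P.Etale} (h : D.Ov i V) (g : V' ⟶ V) (a : Γ(P, D.U i)) :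
    g.left.appTop (D.ev i V h a) = D.ev i V' (h.of_hom g) a := by
  change (V.hom.appLE (D.U i) ⊤ h.le ≫ g.left.appTop) a = _
  have e : g.left ≫ V.hom = V'.hom := MorphismProperty.Over.w g
  have h' : (⊤ : V'.left.Opens) ≤ (g.left ≫ V.hom) ⁻¹ᵁ D.U i := by
    rw [e]
    exact (h.of_hom g).le
  rw [appLE_appTop g.left V.hom (D.U i) h.le h', appLE_congr_hom e (D.U i) h' (h.of_hom g).le]
  rfl

theorem str_res (i : Fin 3) {V V' : P.Etale} (h : D.Ov i V) (g : V' ⟶ V) (a : MvPolynomial (Fin 2) W) :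
    g.left.appTop (D.str i V h a) = D.str i V' (h.of_hom g) a := D.ev_res i h g _

theorem etale_str (i : Fin 3) (V : P.Etale) (h : D.Ov i V) (hV : IsAffine V.left) : (D.str i V h).Etale := by
  have h1 : (D.ch i).Etale := RingHom.Etale.of_bijective (D.chart i)
  have : IsAffine ((𝟭 Scheme.{u}).obj V.left) := hV
  have h2 : (D.ev i V h).Etale :=
    HasRingHomProperty.appLE (P := @Etale) V.hom V.prop ⟨D.U i, D.aff i⟩ ⟨⊤, isAffineOpen_top _⟩ h.le
  exact RingHom.Etale.stableUnderComposition _ _ h1 h2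

/-! ### Compatible toric structures -/

variable {D}
variable {p n : ℕ} {k : Type u} [Field k] {B : WB p n k W}

variable (D B) in
/-- Toric structures compatible with the chart `i`. -/
structure IsT (i : Fin 3) (V : P.Etale) (h : D.Ov i V) (T : Tor p n Γ(V.left, ⊤)) : Prop where
  x0 : T.fr.x 0 = D.ev i V h (D.y i (i + 1))
  x1 : T.fr.x 1 = D.ev i V h (D.y i (i + 2))
  w : ∀ w, T.φ (V.hom.appTop (D.w w)) = V.hom.appTop (D.w (B.σ w))

theorem f3a (i : Fin 3) : i + 1 + 2 = i := by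
  revert i
  decide

theorem f3b (i : Fin 3) : i + 1 + 1 = i + 2 := by
  revert i
  decide

theorem f3c (i : Fin 3) : i = i + 2 + 1 := by
  revert i
  decide

theorem fin3 (i l : Fin 3) : l = i ∨ l = i + 1 ∨ l = i + 2 := by
  revert i l
  decide

section one

variable {i : Fin 3} {V : P.Etale} {h : D.Ov i V} {T : Tor p n Γ(V.left, ⊤)} (hT : D.IsT B i V h T)

include hT

theorem IsT.phi_y (l : Fin 3) : T.φ (D.ev i V h (D.y i l)) = D.ev i V h (D.y i l) ^ p := by
  rcases fin3 i l with rfl | rfl | rfl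
  · rw [D.y_self, map_one, map_one, one_pow]
  · rw [← hT.x0, T.φx]
  · rw [← hT.x1, T.φx]

theorem IsT.phi_y' (j l : Fin 3) (h' : D.Ov j V) : T.φ (D.ev j V h' (D.y j l)) = D.ev j V h' (D.y j l) ^ p := by
  have e1 : D.ev j V h' (D.y j i) * D.ev i V h (D.y i j) = 1 := by
    rw [D.ev_mul j i j V h' h, D.y_self, map_one]
  have e2 : T.φ (D.ev j V h' (D.y j i)) = D.ev j V h' (D.y j i) ^ p := by
    have e3 := congrArg T.φ e1
    rw [map_mul, map_one, hT.phi_y] at e3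
    have e4 : D.ev j V h' (D.y j i) ^ p * D.ev i V h (D.y i j) ^ p = 1 := by rw [← mul_pow, e1, one_pow]
    calc T.φ (D.ev j V h' (D.y j i)) =
          T.φ (D.ev j V h' (D.y j i)) * (D.ev j V h' (D.y j i) ^ p * D.ev i V h (D.y i j) ^ p) := by rw [e4, mul_one]
      _ = (T.φ (D.ev j V h' (D.y j i)) * D.ev i V h (D.y i j) ^ p) * D.ev j V h' (D.y j i) ^ p := by ring
      _ = _ := by rw [e3, one_mul]
  rw [← D.ev_mul j i l V h' h, map_mul, e2, hT.phi_y, mul_pow]

end one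

/-- Compatibility of the Frobenius lifts. -/
theorem IsT.phi_nat {i j : Fin 3} {V V' : P.Etale} {h : D.Ov i V} {h' : D.Ov j V'} {T : Tor p n Γ(V.left, ⊤)}
    {T' : Tor p n Γ(V'.left, ⊤)} (hT : D.IsT B i V h T) (hT' : D.IsT B j V' h' T') (hV : IsAffine V.left)
    (g : V' ⟶ V) (a : Γ(V.left, ⊤)) : g.left.appTop (T.φ a) = T'.φ (g.left.appTop a) := by
  have key : (g.left.appTop.hom).comp T.φ = T'.φ.comp g.left.appTop.hom := by
    refine hom_unique (p := p) (n := n) (D.str i V h) (D.etale_str i V h hV) T'.pn _ _ (fun r => ?_) (fun a => ?_)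
    · have e : ((g.left.appTop.hom).comp T.φ).comp (D.str i V h) =
          (T'.φ.comp g.left.appTop.hom).comp (D.str i V h) := by
        apply MvPolynomial.ringHom_ext
        · intro w
          change g.left.appTop (T.φ (D.str i V h (.C w))) = T'.φ (g.left.appTop (D.str i V h (.C w)))
          rw [D.str_res i h g, D.str_C, D.str_C, hT.w, hT'.w]
          have e1 := D.str_res i h g (.C (B.σ w))
          rwa [D.str_C, D.str_C] at e1
        · intro l
          change g.left.appTop (T.φ (D.str i V h (.X l))) = T'.φ (g.left.appTop (D.str i V h (.X l)))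
          rw [D.str_res i h g]
          have e1 : ∀ l : Fin 2, ∃ m : Fin 3, ∀ (V : P.Etale) (h : D.Ov i V),
              D.str i V h (.X l) = D.ev i V h (D.y i m) := by
            intro l
            fin_cases l
            · exact ⟨i + 1, fun V h => D.str_X0 i V h⟩
            · exact ⟨i + 2, fun V h => D.str_X1 i V h⟩
          obtain ⟨m, hm⟩ := e1 l
          rw [hm, hm, hT.phi_y, hT'.phi_y', map_pow, D.ev_res]
      exact congrArg (fun f : MvPolynomial (Fin 2) W →+* Γ(V'.left, ⊤) => f r) e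
    · obtain ⟨b, hb⟩ := T.hφ a
      obtain ⟨c, hc⟩ := T'.hφ (g.left.appTop a)
      refine ⟨g.left.appTop b - c, ?_⟩
      change g.left.appTop (T.φ a) = T'.φ (g.left.appTop a) + _
      rw [hb, hc, map_add, map_pow, map_mul, map_natCast]
      ring
  exact congrArg (fun f : Γ(V.left, ⊤) →+* Γ(V'.left, ⊤) => f a) key

variable [hp : Fact p.Prime]

theorem id_appTop_hom (V : P.Etale) : ((𝟙 V : V ⟶ V)).left.appTop.hom = RingHom.id Γ(V.left, ⊤) := by
  change (𝟙 V.left : V.left ⟶ V.left).appTop.hom = _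
  rw [Scheme.Hom.id_appTop]
  rfl

omit hp in
theorem IsT.phi_eq {i j : Fin 3} {V : P.Etale} {h : D.Ov i V} {h' : D.Ov j V} {T T' : Tor p n Γ(V.left, ⊤)}
    (hT : D.IsT B i V h T) (hT' : D.IsT B j V h' T') (hV : IsAffine V.left) : T.φ = T'.φ := by
  ext a
  have := hT.phi_nat hT' hV (𝟙 V) a
  have e : ∀ a, ((𝟙 V : V ⟶ V)).left.appTop a = a := fun a =>
    congrArg (fun f : Γ(V.left, ⊤) →+* Γ(V.left, ⊤) => f a) (id_appTop_hom V)
  rwa [e, e] at this

/-- Naturality for one chart. -/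
theorem IsT.S_nat₁ {i : Fin 3} {V V' : P.Etale} {h : D.Ov i V} {h' : D.Ov i V'} {T : Tor p n Γ(V.left, ⊤)}
    {T' : Tor p n Γ(V'.left, ⊤)} (hT : D.IsT B i V h T) (hT' : D.IsT B i V' h' T') (hV : IsAffine V.left)
    (g : V' ⟶ V) (ω : Om2 Γ(V.left, ⊤)) : T'.S (omap2 g.left.appTop.hom ω) = omap2 g.left.appTop.hom (T.S ω) := by
  refine Tor.S_nat T T' g.left.appTop.hom (fun l => ?_) (fun a => hT.phi_nat hT' hV g a) ω
  fin_cases l
  · change g.left.appTop (T.fr.x 0) = T'.fr.x 0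
    rw [hT.x0, hT'.x0, D.ev_res]
  · change g.left.appTop (T.fr.x 1) = T'.fr.x 1
    rw [hT.x1, hT'.x1, D.ev_res]

theorem ev_congr {i j j' : Fin 3} (e : j = j') (V : P.Etale) (h : D.Ov i V) : D.ev i V h (D.y i j) = D.ev i V h (D.y i j') := by
  rw [e]

theorem IsT.S_eq_succ {i : Fin 3} {V : P.Etale} {h : D.Ov i V} {h' : D.Ov (i + 1) V} {T T' : Tor p n Γ(V.left, ⊤)}
    (hT : D.IsT B i V h T) (hT' : D.IsT B (i + 1) V h' T') (hV : IsAffine V.left) : T.S = T'.S := by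
  have e3 : i + 1 + 2 = i := f3a i
  have e2 : i + 1 + 1 = i + 2 := f3b i
  refine Tor.S_eq T T' (hT.phi_eq hT' hV) ?_ ?_
  · rw [hT.x0, hT'.x1, ev_congr (D := D) e3, D.ev_mul i (i + 1) i V h h', D.y_self, map_one]
  · rw [hT.x1, hT'.x0, hT'.x1, ev_congr (D := D) e3, ev_congr (D := D) e2, D.ev_mul (i + 1) i (i + 2) V h' h]

/-- Independence of the chart. -/
theorem IsT.S_eq {i j : Fin 3} {V : P.Etale} {h : D.Ov i V} {h' : D.Ov j V} {T T' : Tor p n Γ(V.left, ⊤)}
    (hT : D.IsT B i V h T) (hT' : D.IsT B j V h' T') (hV : IsAffine V.left) : T.S = T'.S := by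
  rcases fin3 i j with rfl | rfl | rfl
  · refine AddMonoidHom.ext fun ω => ?_
    have := hT.S_nat₁ hT' hV (𝟙 V) ω
    rw [id_appTop_hom, omap2_id] at this
    exact this.symm
  · exact hT.S_eq_succ hT' hV
  · have e : i = i + 2 + 1 := f3c i
    generalize hj : i + 2 = j at *
    subst e
    exact (hT'.S_eq_succ hT hV).symm

variable (B) in
/-- Étale algebras over `W[x, y]` are toric. -/
def _root_.K56.T4.WB.HasTor : Prop := ∀ (A : Type u) [CommRing A] (i : MvPolynomial (Fin 2) W →+* A), i.Etale →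
  ∃ T : Tor p n A, (∀ j, T.fr.x j = i (.X j)) ∧ ∀ w, T.φ (i (.C w)) = i (.C (B.σ w))

omit hp in
theorem exists_isT (hB : B.HasTor) (i : Fin 3) (V : P.Etale) (h : D.Ov i V) (hV : IsAffine V.left) :
    ∃ T, D.IsT B i V h T := by
  obtain ⟨T, h1, h2⟩ := hB _ (D.str i V h) (D.etale_str i V h hV)
  refine ⟨T, ?_, ?_, fun w => ?_⟩
  · rw [h1, D.str_X0]
  · rw [h1, D.str_X1]
  · have := h2 w
    rwa [D.str_C, D.str_C] at this

/-- Naturality. -/
theorem IsT.S_nat (hB : B.HasTor) {i j : Fin 3} {V V' : P.Etale} {h : D.Ov i V} {h' : D.Ov j V'}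
    {T : Tor p n Γ(V.left, ⊤)}
    {T' : Tor p n Γ(V'.left, ⊤)} (hT : D.IsT B i V h T) (hT' : D.IsT B j V' h' T') (hV : IsAffine V.left)
    (hV' : IsAffine V'.left)
    (g : V' ⟶ V) (ω : Om2 Γ(V.left, ⊤)) : T'.S (omap2 g.left.appTop.hom ω) = omap2 g.left.appTop.hom (T.S ω) := by
  obtain ⟨T'', hT''⟩ := exists_isT hB i V' (h.of_hom g) hV'
  rw [← hT''.S_eq hT' hV', hT.S_nat₁ hT'' hV]

end P2

end K56.T4
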