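import Groth.Agent.EtCoh.K56.ShS
import Groth.Agent.CurvesA.SheafKer

/-!
# Sections of the sheaf of two-forms of the projective plane of level `n`; kernels
-/

set_option autoImplicit false

universe u

open CategoryTheory CategoryTheory.Limits AlgebraicGeometry Opposite TopologicalSpace
open KaehlerDifferential K611.Gam K611.Gam2 K611.Frame K611.Sh K611.Seq K611.Seq2 K611.Top

noncomputable section

namespace K56.T4.Sec

variable {X : Scheme.{u}}

/-- Sections of a left exact sequence. -/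
theorem sect_exact {S : ShortComplex (EtCoh.Ab X)} (hS : S.Exact) (hf : Mono S.f) (V : X.Etale)
    (s : EtCoh.sect S.X₂ V) (hs : S.g.hom.app (op V) s = 0) : ∃ t : EtCoh.sect S.X₁ V, S.f.hom.app (op V) t = s := by
  let E : EtCoh.Ab X ⥤ AddCommGrpCat.{u + 1} :=
    sheafToPresheaf X.smallEtaleTopology AddCommGrpCat.{u + 1} ⋙ (evaluation _ _).obj (op V)
  have h1 : (S.map E).Exact := hS.map_of_mono_of_preservesKernel E hf inferInstance
  rw [ShortComplex.ab_exact_iff] at h1
  exact h1 s hs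

theorem kernel_sect {F G : EtCoh.Ab X} (φ : F ⟶ G) (V : X.Etale) (s : EtCoh.sect F V)
    (hs : φ.hom.app (op V) s = 0) : ∃ t : EtCoh.sect (kernel φ) V, (kernel.ι φ).hom.app (op V) t = s :=
  sect_exact (S := ShortComplex.mk (kernel.ι φ) φ (kernel.condition φ)) (ShortComplex.exact_kernel φ)
    (inferInstanceAs (Mono (kernel.ι φ))) V s hs

/-- Two-forms form a quasi-coherent presheaf. -/
def om2QC (X : Scheme.{u}) : Groth.Agent.Etbase.EtQC.QC (pre Om2F X) where
  mod W := inferInstanceAs (Module Γ(W.left, ⊤) (ULift.{u + 1} (Om2 Γ(W.left, ⊤))))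
  isBC {W' W} g hW' hW :=
    K611.Zar.isBC_ulift (M := Om2 Γ(W.left, ⊤)) (M' := Om2 Γ(W'.left, ⊤)) g.left.appTop.hom
      (omap2 g.left.appTop.hom) (isBC_omap2 g.left.appTop.hom (K611.Zar.etale_appTop g hW' hW))
      ((pre Om2F X).map g.op).hom (fun _ => rfl)

theorem om2_etAcyc (X : Scheme.{u}) : Groth.Agent.Etbase.EtCartan.EtAcyc (sh Om2F X).obj :=
  K611.S1.aP_etAcyc (pre Om2F X) (om2QC X)

theorem un_bijective (U : X.Etale) (hU : IsAffine U.left) : Function.Bijective (un Om2F U) :=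
  (K611.S1.η_bijective (pre Om2F X) (om2QC X) U hU).comp (AddEquiv.ulift.{u, u + 1}.symm.bijective)

theorem nsmul_app {F : EtCoh.Ab X} (m : ℕ) (V : X.Etale) (s : EtCoh.sect F V) :
    ((m : ℕ) • 𝟙 F : F ⟶ F).hom.app (op V) s = m • s := by
  induction m with
  | zero => rw [zero_smul, zero_smul]; rfl
  | succ m ih => rw [add_smul, add_smul, one_smul, one_smul, ← ih]; rfl

end K56.T4.Sec
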