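import Groth.Agent.EtCoh.K56.P2S

/-!
# The operator `S` on the étale sheaf of two-forms of the projective plane
-/

set_option autoImplicit false

universe u

open CategoryTheory CategoryTheory.Limits AlgebraicGeometry Opposite TopologicalSpace
open KaehlerDifferential K611.Gam K611.Gam2 K611.Frame K611.Sh K611.Seq K611.Seq2 K611.Top

noncomputable section

namespace K56.T4.P2

variable {P : Scheme.{u}} {W : Type u} [CommRing W] (D : P2 P W)

/-- The basis: affine objects over a chart. -/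
def Bas (V : P.Etale) : Prop := IsAffine V.left ∧ ∃ i, D.Ov i V

theorem exists_affine (U : P.Etale) (x : U.left) (i : Fin 3) (hx : U.hom x ∈ D.U i) :
    ∃ (V : P.Etale) (g : V ⟶ U) (v : V.left), g.left v = x ∧ IsAffine V.left ∧ D.Ov i V := by
  obtain ⟨O, hO, hxO, hOU⟩ := exists_isAffineOpen_mem_and_subset (X := U.left) (U := U.hom ⁻¹ᵁ D.U i) hx
  have : Etale (O.ι ≫ U.hom) := MorphismProperty.comp_mem _ _ _ (inferInstance : Etale O.ι) U.prop
  let V : P.Etale := Scheme.Etale.mk (O.ι ≫ U.hom)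
  refine ⟨V, MorphismProperty.Over.homMk O.ι rfl, ⟨x, hxO⟩, rfl, hO, ?_⟩
  intro v
  change (O.ι ≫ U.hom) v ∈ D.U i
  rw [Scheme.Hom.comp_apply]
  exact hOU v.2

theorem isBasis : Base.IsBasis D.Bas := by
  intro U x
  obtain ⟨i, hi⟩ := D.cov (U.hom x)
  obtain ⟨V, g, v, hv, hV, hi'⟩ := D.exists_affine U x i hi
  exact ⟨V, g, v, hv, hV, i, hi'⟩

variable {D}
variable {p n : ℕ} [hp : Fact p.Prime] {k : Type u} [Field k] {B : WB p n k W}

omit hp in
theorem exists_isT' (hB : B.HasTor) (V : P.Etale) (hV : D.Bas V) :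
    ∃ (T : Tor p n Γ(V.left, ⊤)), ∃ (i : Fin 3) (h : D.Ov i V), D.IsT B i V h T := by
  obtain ⟨hV, i, hi⟩ := hV
  obtain ⟨T, hT⟩ := exists_isT hB i V hi hV
  exact ⟨T, i, hi, hT⟩

/-- The chosen toric structure. -/
def chT (hB : B.HasTor) (V : P.Etale) (hV : D.Bas V) : Tor p n Γ(V.left, ⊤) := (exists_isT' hB V hV).choose

/-- The operator on the basis. -/
def phiS (hB : B.HasTor) (V : P.Etale) (hV : D.Bas V) : (pre Om2F P).obj (op V) →+ EtCoh.sect (sh Om2F P) V :=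
  ((un Om2F V).comp (chT hB V hV).S).comp
    (AddEquiv.ulift.{u, u + 1}.toAddMonoidHom : ULift.{u + 1} (Om2F.obj Γ(V.left, ⊤)) →+ _)

theorem phiS_upp (hB : B.HasTor) (V : P.Etale) (hV : D.Bas V) (ω : Om2 Γ(V.left, ⊤)) :
    phiS hB V hV (upp Om2F V ω) = un Om2F V ((chT hB V hV).S ω) := rfl

theorem phiS_eq (hB : B.HasTor) (V : P.Etale) (hV : D.Bas V) {i : Fin 3} {h : D.Ov i V} {T : Tor p n Γ(V.left, ⊤)}
    (hT : D.IsT B i V h T) (ω : Om2 Γ(V.left, ⊤)) : phiS hB V hV (upp Om2F V ω) = un Om2F V (T.S ω) := by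
  obtain ⟨j, h', hT'⟩ := (exists_isT' hB V hV).choose_spec
  rw [phiS_upp, hT.S_eq hT' hV.1]
  rfl

theorem phiS_nat (hB : B.HasTor) (V V' : P.Etale) (hV : D.Bas V) (hV' : D.Bas V') (g : V' ⟶ V)
    (s : (pre Om2F P).obj (op V)) :
    phiS hB V' hV' ((pre Om2F P).map g.op s) = (sh Om2F P).obj.map g.op (phiS hB V hV s) := by
  obtain ⟨i, h, hT⟩ := (exists_isT' hB V hV).choose_spec
  obtain ⟨j, h', hT'⟩ := (exists_isT' hB V' hV').choose_spec
  obtain ⟨ω, rfl⟩ : ∃ ω, s = upp Om2F V ω := ⟨dwn Om2F V s, rfl⟩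
  have e : (pre Om2F P).map g.op (upp Om2F V ω) = upp Om2F V' (omap2 g.left.appTop.hom ω) := rfl
  rw [e, phiS_upp, phiS_upp, ← un_res]
  congr 1
  exact hT.S_nat hB hT' hV.1 hV'.1 g ω

theorem exists_Φ (D : P2 P W) (hB : B.HasTor) : ∃ Φ : pre Om2F P ⟶ (sh Om2F P).obj, ∀ (V : P.Etale) (hV : D.Bas V)
    (s : (pre Om2F P).obj (op V)), Φ.app (op V) s = phiS hB V hV s :=
  Base.exists_hom D.isBasis (pre Om2F P) (sh Om2F P) (phiS hB) (phiS_nat hB)

variable (D) in
/-- The Cartier operator on the sheaf of two-forms. -/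
def S (hB : B.HasTor) : sh Om2F P ⟶ sh Om2F P :=
  ((sheafificationAdjunction P.smallEtaleTopology AddCommGrpCat.{u + 1}).homEquiv (pre Om2F P) (sh Om2F P)).symm
    (exists_Φ D hB).choose

theorem S_un_bas (hB : B.HasTor) (V : P.Etale) (hV : D.Bas V) (ω : Om2 Γ(V.left, ⊤)) :
    (D.S hB).hom.app (op V) (un Om2F V ω) = phiS hB V hV (upp Om2F V ω) := by
  have h1 : toSheafify P.smallEtaleTopology (pre Om2F P) ≫ (D.S hB).hom = (exists_Φ D hB).choose := by
    have := ((sheafificationAdjunction P.smallEtaleTopology AddCommGrpCat.{u + 1}).homEquiv (pre Om2F P)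
      (sh Om2F P)).apply_symm_apply (exists_Φ D hB).choose
    rw [Adjunction.homEquiv_unit] at this
    exact this
  have h2 := congrArg (fun η : pre Om2F P ⟶ (sh Om2F P).obj => η.app (op V) (upp Om2F V ω)) h1
  exact h2.trans ((exists_Φ D hB).choose_spec V hV _)

/-- The operator in terms of any compatible toric structure. -/
theorem S_un (hB : B.HasTor) (V : P.Etale) (hV : IsAffine V.left) {i : Fin 3} {h : D.Ov i V} {T : Tor p n Γ(V.left, ⊤)}
    (hT : D.IsT B i V h T) (ω : Om2 Γ(V.left, ⊤)) :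
    (D.S hB).hom.app (op V) (un Om2F V ω) = un Om2F V (T.S ω) := by
  rw [S_un_bas hB V ⟨hV, i, h⟩, phiS_eq hB V ⟨hV, i, h⟩ hT]

end K56.T4.P2
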