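import Groth.Agent.EtCoh.K56.Fin2

/-!
# Nonvanishing on `H²` of maps to the sheaf of two-forms of the projective plane; `S = 1` on `H²(K 1)`
-/

set_option autoImplicit false

universe u

open CategoryTheory CategoryTheory.Limits AlgebraicGeometry Opposite TopologicalSpace
open KaehlerDifferential K611.Gam K611.Gam2 K611.Frame K611.Sh K611.Seq K611.Seq2 K611.Top

noncomputable section

namespace K56.T4.P2

open Sec Abs K554.Mv K554.Mv3

attribute [local instance 3000] hsE hxE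

variable {P : Scheme.{u}} {W : Type u} [CommRing W] (D : P2 P W)
variable {p n : ℕ} {k : Type u} [Field k] {B : WB p n k W}

theorem shf_apply_zero (f : ℤ × ℤ →₀ W) (m : ℤ × ℤ) : shf (-m) f 0 = f m := by
  have h := Finsupp.mapDomain_apply (add_left_injective (-m)) f m
  simp only [add_neg_cancel] at h
  exact h

theorem ki_kLift {G : EtCoh.Ab P} (t : G ⟶ sh Om2F P) (ht : p ^ 1 • t = 0) (V : P.Etale) (s : EtCoh.sect G V) :
    (ki (sh Om2F P) p 1).hom.app (op V) ((kLift p 1 t ht).hom.app (op V) s) = t.hom.app (op V) s :=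
  congrArg (fun f : G ⟶ sh Om2F P => f.hom.app (op V) s) (kLift_ki p 1 t ht)

/-- NODE TOR2 -/
theorem exists_H2_ne_zero (hB : B.HasTor) (hn : 1 ≤ n) {G : EtCoh.Ab P} (t : G ⟶ sh Om2F P) (ht : p ^ 1 • t = 0)
    (s₀ : EtCoh.sect G (ob D.tor)) (hs₀ : t.hom.app (op (ob D.tor)) s₀ ≠ 0)
    (hlin : ∀ a b : Γ(P, D.tor), (∃ s, t.hom.app (op (ob D.tor)) s = D.fm 0 D.tor (D.tor_le 0) b) →
      ∃ s', t.hom.app (op (ob D.tor)) s' = D.fm 0 D.tor (D.tor_le 0) (a * b)) :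
    ∃ x : EtCoh.H P G 2, Sheaf.H.map (kLift p 1 t ht) 2 x ≠ 0 := by
  obtain ⟨b, hb⟩ := (D.fm_bij hB 0 D.tor D.aff_tor (D.tor_le 0)).2 (t.hom.app (op (ob D.tor)) s₀)
  set f := D.Lf hB (t.hom.app (op (ob D.tor)) s₀) with hf
  have hf' : D.th (D.lau f) = t.hom.app (op (ob D.tor)) s₀ := D.th_lau_Lf hB _
  have hf0 : f ≠ 0 := by
    intro h
    apply hs₀
    rw [← hf', h, map_zero, map_zero]
  obtain ⟨m, hm⟩ : ∃ m, f m ≠ 0 := by
    by_contra h
    push Not at h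
    exact hf0 (Finsupp.ext h)
  obtain ⟨s', hs'⟩ := hlin (D.tmon (-m)) b ⟨s₀, hb.symm⟩
  have h1 : t.hom.app (op (ob D.tor)) s' = D.th (D.lau (shf (-m) f)) := by
    rw [hs', lau_shf]
    have h2 : D.fm 0 D.tor (D.tor_le 0) (D.tmon (-m) * b) = D.th (D.tmon (-m) * b * (D.ty 0 1 * D.ty 0 2)) :=
      D.fm_tor hB 0 _
    have h3 : D.fm 0 D.tor (D.tor_le 0) b = D.th (b * (D.ty 0 1 * D.ty 0 2)) := D.fm_tor hB 0 _
    have h4 : b * (D.ty 0 1 * D.ty 0 2) = D.lau f := (D.th_bij hB).1 (by rw [← h3, hb, hf'])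
    rw [h2, mul_assoc, h4, mul_comm]
  refine ⟨D.cl.e G s', ?_⟩
  rw [← D.cl.nat]
  intro h5
  have h6 := D.LK_zero_of_e hB hn _ h5
  rw [D.LK_of_ki hB (f := shf (-m) f) (by rw [ki_kLift, h1]), shf_apply_zero] at h6
  exact hm h6

variable [hp : Fact p.Prime]

theorem SK_tθ (hB : B.HasTor) (hn : 1 ≤ n) :
    (SK (D.S hB) p 1).hom.app (op (ob D.tor)) (D.tθ hB hn) = D.tθ hB hn := by
  apply ki_inj (sh Om2F P) p 1
  rw [ki_SK, ki_tθ, map_nsmul, S_th]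

/-- NODE TOR3: the operator acts as the identity on `H²`. -/
theorem H_map_SK (hB : B.HasTor) (hn : 1 ≤ n) (hW : ∀ w : W, ∃ r : ℤ, (r : W) = w)
    (z : EtCoh.H P (K (sh Om2F P) p 1) 2) : Sheaf.H.map (SK (D.S hB) p 1) 2 z = z := by
  obtain ⟨r, rfl⟩ := D.H2a hB hn hW z
  rw [map_zsmul, ← D.cl.nat, SK_tθ]

end K56.T4.P2
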