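import Groth.Agent.EtCoh.K56.Loc
import Groth.Agent.EtCoh.K958.Laurent

/-!
# Sections of the sheaf of two-forms of the projective plane over the charts and their intersections
-/

set_option autoImplicit false

universe u

open CategoryTheory CategoryTheory.Limits AlgebraicGeometry Opposite TopologicalSpace
open KaehlerDifferential K611.Gam K611.Gam2 K611.Frame K611.Sh K611.Seq K611.Seq2 K611.Top

noncomputable section

namespace K56.T4.P2

open Sec Abs

variable {P : Scheme.{u}}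

/-- Functions on an open subset as functions on the corresponding étale object. -/
def gv (V : P.Opens) : Γ(P, V) →+* Γ((ob V).left, ⊤) := V.topIso.inv.hom

theorem gv_bij (V : P.Opens) : Function.Bijective (gv V) :=
  (ConcreteCategory.isIso_iff_bijective V.topIso.inv).1 inferInstance

/-- The restriction morphism. -/
abbrev mor {V V' : P.Opens} (h : V' ≤ V) : ob V' ⟶ ob V := (EtZar.zarToEt P).map (homOfLE h)

theorem gv_nat {V V' : P.Opens} (h : V' ≤ V) (a : Γ(P, V)) : (mor h).left.appTop (gv V a) = gv V' (rs h a) :=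
  Groth.Agent.Etbase.GaZar.topIso_inv_naturality P h a

variable {W : Type u} [CommRing W] {D : P2 P W}

theorem ov_of_le {V : P.Opens} {i : Fin 3} (h : V ≤ D.U i) : D.Ov i (ob V) := fun v => h v.2

theorem ev_gv {V : P.Opens} {i : Fin 3} (h : V ≤ D.U i) (h' : D.Ov i (ob V)) (a : Γ(P, D.U i)) :
    D.ev i (ob V) h' a = gv V (rs h a) := by
  have e : V.ι.appLE (D.U i) ⊤ h'.le = P.presheaf.map (homOfLE h).op ≫ V.topIso.inv := by
    rw [Scheme.Opens.ι_appLE, Scheme.Opens.topIso_inv]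
    exact (congrArg P.presheaf.map (Subsingleton.elim _ _)).trans (P.presheaf.map_comp (homOfLE h).op _)
  exact congrArg (fun f => f a) e

variable (D) in
/-- The volume form of the chart `i` over `V`. -/
def vl (i : Fin 3) (V : P.Opens) (h : V ≤ D.U i) : Om2 Γ((ob V).left, ⊤) :=
  K611.Gam2.w (KaehlerDifferential.D ℤ _ (gv V (rs h (D.y i (i + 1))))) (KaehlerDifferential.D ℤ _ (gv V (rs h (D.y i (i + 2)))))

variable (D) in
/-- The section `a dx dy`. -/
def fm (i : Fin 3) (V : P.Opens) (h : V ≤ D.U i) : Γ(P, V) →+ EtCoh.sect (sh Om2F P) (ob V) where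
  toFun a := un Om2F (ob V) (gv V a • D.vl i V h)
  map_zero' := by rw [map_zero, zero_smul]; exact map_zero (un Om2F (ob V))
  map_add' a b := by rw [map_add, add_smul]; exact map_add (un Om2F (ob V)) _ _

variable {p n : ℕ} [hp : Fact p.Prime] {k : Type u} [Field k] {B : WB p n k W}

omit hp in
theorem IsT.vol_eq {i : Fin 3} {V : P.Opens} (h : V ≤ D.U i) {h' : D.Ov i (ob V)} {T : Tor p n Γ((ob V).left, ⊤)}
    (hT : D.IsT B i (ob V) h' T) : vol T.fr = D.vl i V h := by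
  unfold vol vl
  rw [hT.x0, hT.x1, ev_gv h, ev_gv h]

omit hp in
variable (D) in
theorem fm_bij (hB : B.HasTor) (i : Fin 3) (V : P.Opens) (hV : IsAffineOpen V) (h : V ≤ D.U i) :
    Function.Bijective (D.fm i V h) := by
  obtain ⟨T, hT⟩ := exists_isT hB i (ob V) (ov_of_le h) hV
  have hv := hT.vol_eq h
  constructor
  · intro a b hab
    apply (gv_bij V).1
    apply T.smul_vol_inj
    rw [hv]
    exact (un_bijective (ob V) hV).1 hab
  · intro s
    obtain ⟨ω, rfl⟩ := (un_bijective (ob V) hV).2 s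
    obtain ⟨a, rfl⟩ := T.exists_smul_vol ω
    obtain ⟨a, rfl⟩ := (gv_bij V).2 a
    refine ⟨a, ?_⟩
    rw [hv]
    rfl

omit hp in
variable (D) in
theorem fm_rst (i : Fin 3) {V V' : P.Opens} (h : V ≤ D.U i) (h' : V' ≤ V) (a : Γ(P, V)) :
    rst (sh Om2F P) h' (D.fm i V h a) = D.fm i V' (h'.trans h) (rs h' a) := by
  have e1 : rst (sh Om2F P) h' (D.fm i V h a) = un Om2F (ob V') (res Om2F (mor h') (gv V a • D.vl i V h)) :=
    (un_res Om2F (mor h') (gv V a • D.vl i V h)).symm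
  rw [e1]
  refine congrArg (un Om2F (ob V')) ?_
  change omap2 (mor h').left.appTop.hom (gv V a • D.vl i V h) = gv V' (rs h' a) • D.vl i V' (h'.trans h)
  rw [omap2_smul]
  have e2 : omap2 (mor h').left.appTop.hom (D.vl i V h) = D.vl i V' (h'.trans h) := by
    unfold vl
    rw [omap2_w, omap_D, omap_D]
    have e3 : ∀ a : Γ(P, D.U i), (mor h').left.appTop.hom (gv V (rs h a)) = gv V' (rs (h'.trans h) a) := by
      intro a
      refine (gv_nat h' _).trans (congrArg (gv V') ?_)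
      exact congrArg (fun f => f a) (P.presheaf.map_comp (homOfLE h).op (homOfLE h').op).symm
    rw [e3, e3]
  rw [e2]
  exact congrArg (fun z => z • D.vl i V' (h'.trans h)) (gv_nat h' a)

omit hp in
variable (D) in
theorem fm_succ (hB : B.HasTor) (i : Fin 3) (V : P.Opens) (hV : IsAffineOpen V) (h : V ≤ D.U i) (h' : V ≤ D.U (i + 1))
    (a : Γ(P, V)) : D.fm (i + 1) V h' a = D.fm i V h (a * rs h' (D.y (i + 1) i) ^ 3) := by
  obtain ⟨T, hT⟩ := exists_isT hB i (ob V) (ov_of_le h) hV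
  obtain ⟨T', hT'⟩ := exists_isT hB (i + 1) (ob V) (ov_of_le h') hV
  have e3 : i + 1 + 2 = i := f3a i
  have e2 : i + 1 + 1 = i + 2 := f3b i
  have key := Tor.vol_change T T' (by
    rw [hT.x0, hT'.x1, ev_congr (D := D) e3, D.ev_mul i (i + 1) i, D.y_self, map_one]) (by
    rw [hT.x1, hT'.x0, hT'.x1, ev_congr (D := D) e3, ev_congr (D := D) e2, D.ev_mul (i + 1) i (i + 2)])
  rw [hT.vol_eq h, hT'.vol_eq h', hT'.x1, ev_congr (D := D) e3, ev_gv h'] at key
  refine congrArg (un Om2F (ob V)) ?_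
  rw [key, ← mul_smul, map_mul, map_pow]

variable (D) in
theorem aff2 (i j : Fin 3) : IsAffineOpen (D.U i ⊓ D.U j) := by
  rw [D.inter]
  exact (D.aff i).basicOpen _

variable (D) in
theorem aff_tor : IsAffineOpen D.tor := by
  have e : D.tor = P.basicOpen (D.y 0 1 * D.y 0 2) := by
    rw [Scheme.basicOpen_mul, ← D.inter, ← D.inter]
    exact inf_inf_distrib_left _ _ _
  rw [e]
  exact (D.aff 0).basicOpen _

variable (D) in
/-- The section `a θ` over the torus, `θ = dlog x dlog y`. -/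
def th : Γ(P, D.tor) →+ EtCoh.sect (sh Om2F P) (ob D.tor) where
  toFun a := D.fm 0 D.tor (D.tor_le 0) (a * (D.ty 1 0 * D.ty 2 0))
  map_zero' := by rw [zero_mul, map_zero]
  map_add' a b := by rw [add_mul, map_add]

variable (D) in
theorem th_apply (a : Γ(P, D.tor)) : D.th a = D.fm 0 D.tor (D.tor_le 0) (a * (D.ty 1 0 * D.ty 2 0)) := rfl

omit hp in
variable (D) in
theorem fm_tor (hB : B.HasTor) (i : Fin 3) (a : Γ(P, D.tor)) :
    D.fm i D.tor (D.tor_le i) a = D.th (a * (D.ty i (i + 1) * D.ty i (i + 2))) := by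
  have h0 : ∀ a, D.fm 0 D.tor (D.tor_le 0) a = D.th (a * (D.ty 0 1 * D.ty 0 2)) := by
    intro a
    rw [th_apply]
    congr 1
    have e1 := D.ty_mul 0 1 0
    have e2 := D.ty_mul 0 2 0
    rw [ty_self] at e1 e2
    calc a = a * ((D.ty 0 1 * D.ty 1 0) * (D.ty 0 2 * D.ty 2 0)) := by rw [e1, e2, one_mul, mul_one]
      _ = _ := by ring
  have h1 : ∀ a, D.fm 1 D.tor (D.tor_le 1) a = D.th (a * (D.ty 1 2 * D.ty 1 0)) := by
    intro a
    refine (D.fm_succ hB 0 D.tor D.aff_tor (D.tor_le 0) (D.tor_le 1) a).trans ?_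
    rw [h0]
    congr 1
    change a * D.ty 1 0 ^ 3 * (D.ty 0 1 * D.ty 0 2) = _
    have e1 := D.ty_mul 1 0 1
    have e2 := D.ty_mul 1 0 2
    rw [ty_self] at e1
    calc _ = a * ((D.ty 1 0 * D.ty 0 1) * (D.ty 1 0 * D.ty 0 2) * D.ty 1 0) := by ring
      _ = _ := by rw [e1, e2, one_mul]
  have h2 : ∀ a, D.fm 2 D.tor (D.tor_le 2) a = D.th (a * (D.ty 2 0 * D.ty 2 1)) := by
    intro a
    refine (D.fm_succ hB 1 D.tor D.aff_tor (D.tor_le 1) (D.tor_le 2) a).trans ?_
    rw [h1]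
    congr 1
    change a * D.ty 2 1 ^ 3 * (D.ty 1 2 * D.ty 1 0) = _
    have e1 := D.ty_mul 2 1 2
    have e2 := D.ty_mul 2 1 0
    rw [ty_self] at e1
    calc _ = a * ((D.ty 2 1 * D.ty 1 2) * (D.ty 2 1 * D.ty 1 0) * D.ty 2 1) := by ring
      _ = _ := by rw [e1, e2, one_mul]
  fin_cases i
  · exact h0 a
  · exact h1 a
  · exact h2 a

omit hp in
variable (D) in
theorem th_bij (hB : B.HasTor) : Function.Bijective D.th := by
  have h1 := D.fm_bij hB 0 D.tor D.aff_tor (D.tor_le 0)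
  have h2 : Function.Bijective fun a : Γ(P, D.tor) => a * (D.ty 1 0 * D.ty 2 0) := by
    refine Function.bijective_iff_has_inverse.2 ⟨fun a => a * (D.ty 0 1 * D.ty 0 2), fun a => ?_, fun a => ?_⟩
    all_goals
      have e1 := D.ty_mul 0 1 0
      have e2 := D.ty_mul 0 2 0
      rw [ty_self] at e1 e2
      dsimp only
      calc _ = a * ((D.ty 0 1 * D.ty 1 0) * (D.ty 0 2 * D.ty 2 0)) := by ring
        _ = a := by rw [e1, e2, one_mul, mul_one]
  exact h1.comp h2

/-- `S θ = θ`. -/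
theorem S_th (hB : B.HasTor) : (D.S hB).hom.app (op (ob D.tor)) (D.th 1) = D.th 1 := by
  obtain ⟨T, hT⟩ := exists_isT hB 0 (ob D.tor) (ov_of_le (D.tor_le 0)) D.aff_tor
  have e0 : D.th 1 = un Om2F (ob D.tor) (gv D.tor (D.ty 1 0 * D.ty 2 0) • vol T.fr) := by
    rw [th_apply, one_mul, hT.vol_eq (D.tor_le 0)]
    rfl
  rw [e0, S_un hB (ob D.tor) D.aff_tor hT, Tor.S_smul_vol]
  congr 2
  have e1 := D.ty_mul 0 1 0
  have e2 := D.ty_mul 0 2 0
  rw [ty_self] at e1 e2
  have hx0 : T.fr.x 0 = gv D.tor (D.ty 0 1) := by rw [hT.x0, ev_gv (D.tor_le 0)]; rfl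
  have hx1 : T.fr.x 1 = gv D.tor (D.ty 0 2) := by rw [hT.x1, ev_gv (D.tor_le 0)]; rfl
  have f1 := congrArg (gv D.tor) e1
  have f2 := congrArg (gv D.tor) e2
  rw [map_mul, map_one, ← hx0] at f1
  rw [map_mul, map_one, ← hx1] at f2
  rw [map_mul]
  set u := gv D.tor (D.ty 1 0)
  set v := gv D.tor (D.ty 2 0)
  have g1 : T.φ u * T.fr.x 0 ^ p = 1 := by
    rw [← T.φx, ← map_mul, mul_comm, f1, map_one]
  have g2 : T.φ v * T.fr.x 1 ^ p = 1 := by
    rw [← T.φx, ← map_mul, mul_comm, f2, map_one]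
  have hp' : p = p - 1 + 1 := (Nat.succ_pred_eq_of_pos hp.out.pos).symm
  have key : u * v = T.φ (u * v) * (T.fr.x 0 ^ (p - 1) * T.fr.x 1 ^ (p - 1)) := by
    have g1' : T.φ u * T.fr.x 0 ^ (p - 1) * T.fr.x 0 = 1 := by
      rw [mul_assoc, ← pow_succ, ← hp', g1]
    have g2' : T.φ v * T.fr.x 1 ^ (p - 1) * T.fr.x 1 = 1 := by
      rw [mul_assoc, ← pow_succ, ← hp', g2]
    have k1 : u = T.φ u * T.fr.x 0 ^ (p - 1) := by
      calc u = (T.φ u * T.fr.x 0 ^ (p - 1) * T.fr.x 0) * u := by rw [g1', one_mul]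
        _ = (T.φ u * T.fr.x 0 ^ (p - 1)) * (T.fr.x 0 * u) := by ring
        _ = _ := by rw [f1, mul_one]
    have k2 : v = T.φ v * T.fr.x 1 ^ (p - 1) := by
      calc v = (T.φ v * T.fr.x 1 ^ (p - 1) * T.fr.x 1) * v := by rw [g2', one_mul]
        _ = (T.φ v * T.fr.x 1 ^ (p - 1)) * (T.fr.x 1 * v) := by ring
        _ = _ := by rw [f2, mul_one]
    rw [map_mul]
    calc u * v = (T.φ u * T.fr.x 0 ^ (p - 1)) * (T.φ v * T.fr.x 1 ^ (p - 1)) := by rw [← k1, ← k2]
      _ = _ := by ring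
  conv_lhs => rw [key]
  rw [T.tc_phi_mon _ (Nat.sub_lt hp.out.pos one_pos) (Nat.sub_lt hp.out.pos one_pos), if_pos ⟨rfl, rfl⟩]

end K56.T4.P2
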